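import Groth.Agent.BunMod.K619.KPt
import Groth.Agent.BunMod.K757.Geo
import Groth.Agent.ShStab.K846.SSOpen
import Groth.Agent.BunMod.K670.RankPt
import Groth.Agent.VBCurve.K703.Chi

/-!
# Admissible families from their fibres at `k`-points (helper619)
-/

set_option autoImplicit false
universe u

open CategoryTheory CategoryTheory.Limits AlgebraicGeometry

namespace K619.Adm

open Groth.Agent Groth.Agent.VarietyA.DegRank K140.BM K707.Base K707.Deg K707.Slope K707.Semi K325.GeomFib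
  K325.StabFib K670.Fam KPt

variable {k : Type u} [Field k] {X : Scheme.{u}} [X.Over (Spec (CommRingCat.of k))]

section ss

theorem ss_iso [IsIntegral X] {M N : X.Modules} (e : M ≅ N) (h : SS k M) : SS k N := by
  intro F i hi hF
  have h4 := h F (i ≫ e.inv) (mono_comp _ _) hF
  rwa [rk_iso e, dg_iso k e] at h4

end ss

section pull

variable {P : Scheme.{u}} [P.Over (Spec (CommRingCat.of k))] (e : P ⟶ X) [IsIso e]
  (he : e ≫ (X ↘ Spec (CommRingCat.of k)) = P ↘ Spec (CommRingCat.of k))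
  [IsIntegral X] [IsIntegral P]

/-- The pull-back of a semistable bundle along an isomorphism. -/
theorem ss_pull_of (e' : X ⟶ P) (h' : e' ≫ e = 𝟙 X)
    (he' : e' ≫ (P ↘ Spec (CommRingCat.of k)) = X ↘ Spec (CommRingCat.of k)) [IsIso e']
    (he : e ≫ (X ↘ Spec (CommRingCat.of k)) = P ↘ Spec (CommRingCat.of k))
    [IsProper (X ↘ Spec (CommRingCat.of k))] [IsProper (P ↘ Spec (CommRingCat.of k))]
    {M : X.Modules} (hM : FlatMod.IsFinLocFree M) (h : SS k M) :
    SS k ((Scheme.Modules.pullback e).obj M) := by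
  intro F i hi hF
  have hfl : PreservesFiniteLimits (Scheme.Modules.pullback e') := PerfC.FlatExact.preservesFiniteLimits_pullback e'
  have hm : Mono ((Scheme.Modules.pullback e').map i) := inferInstance
  let θ : (Scheme.Modules.pullback e').obj ((Scheme.Modules.pullback e).obj M) ≅ M :=
    (Scheme.Modules.pullbackComp e' e).app M ≪≫ (Scheme.Modules.pullbackCongr h').app M ≪≫
      (Scheme.Modules.pullbackId X).app M
  have h3 := h ((Scheme.Modules.pullback e').obj F) ((Scheme.Modules.pullback e').map i ≫ θ.hom) (mono_comp _ _)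
    (PullIso.vb_pull e' hF)
  rw [PullIso.rk_pull e' hF, PullIso.dg_pull e' he' hF] at h3
  rw [PullIso.rk_pull e hM, PullIso.dg_pull e he hM]
  exact h3

end pull

variable [IsProper (X ↘ Spec (CommRingCat.of k))] [Smooth (X ↘ Spec (CommRingCat.of k))]
  [GeometricallyConnected (X ↘ Spec (CommRingCat.of k))] [IsIntegral X]

section

variable (T : Over (B0 k)) (p : Spec (CommRingCat.of k) ⟶ T.left) (hp : p ≫ T.hom = 𝟙 _)
  {E : (PicF.XT (st k X) T).Modules} {r : ℕ} (hE : FlatMod.IsFinLocFreeOfRank r E)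

include hE

/-- Semistability of the fibre at a `k`-point. -/
theorem ssb_of_ss (hdim : topologicalKrullDim X = 1)
    (h : SS k ((Scheme.Modules.pullback (ip (X := X) T p hp)).obj E))
    (h0 : dg k ((Scheme.Modules.pullback (ip (X := X) T p hp)).obj E) = 0) :
    SSB r (p ≫ T.hom) (pl k X (Over.homMk p rfl : Over.mk (p ≫ T.hom) ⟶ T) E) := by
  let _ : (PicF.XT (st k X) (Over.mk (p ≫ T.hom))).Over (Spec (CommRingCat.of k)) :=
    ⟨PicF.XTproj (st k X) (Over.mk (p ≫ T.hom))⟩
  obtain ⟨h1, h2, h3⟩ := nc (X := X) hdim T p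
  have : IsProper (PicF.XT (st k X) (Over.mk (p ≫ T.hom)) ↘ Spec (CommRingCat.of k)) := h2
  have := isIso_cmp (X := X) T p hp
  have h4 : FlatMod.IsFinLocFreeOfRank r (pl k X (Over.homMk p rfl : Over.mk (p ≫ T.hom) ⟶ T) E) :=
    PerfB.FibreConc.isFinLocFreeOfRank_pullback _ hE
  obtain ⟨e⟩ := nonempty_iso T p hp E
  have h5 : SS k ((Scheme.Modules.pullback (cmp (X := X) T p hp)).obj
      (pl k X (Over.homMk p rfl : Over.mk (p ≫ T.hom) ⟶ T) E)) := ss_iso e h
  have h6 := PullIso.dg_pull (k := k) (cmp (X := X) T p hp) (cmp_snd T p hp) (isFinLocFree_of_rank h4)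
  have hi : inv (cmp (X := X) T p hp) ≫ (X ↘ Spec (CommRingCat.of k)) =
      PicF.XT (st k X) (Over.mk (p ≫ T.hom)) ↘ Spec (CommRingCat.of k) := by
    rw [IsIso.inv_comp_eq]
    exact (cmp_snd T p hp).symm
  have h7 := ss_pull_of (k := k) (inv (cmp (X := X) T p hp)) (cmp T p hp) (by simp) (cmp_snd T p hp) hi
    (PullIso.vb_pull _ (isFinLocFree_of_rank h4)) h5
  let θ : (Scheme.Modules.pullback (inv (cmp (X := X) T p hp))).obj ((Scheme.Modules.pullback (cmp T p hp)).obj
      (pl k X (Over.homMk p rfl : Over.mk (p ≫ T.hom) ⟶ T) E)) ≅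
      (pl k X (Over.homMk p rfl : Over.mk (p ≫ T.hom) ⟶ T) E) :=
    (Scheme.Modules.pullbackComp (inv (cmp T p hp)) (cmp T p hp)).app _ ≪≫
      (Scheme.Modules.pullbackCongr (by simp)).app _ ≪≫ (Scheme.Modules.pullbackId _).app _
  refine ⟨h4, ?_, ?_⟩
  · rw [← dg_of_rank k h4, ← h6, ← dg_iso k e, h0]
  · exact (ss_iff h3 h4).1 (ss_iso θ h7)

end

section points

variable [IsAlgClosed k]

/-- An open subset of an affine scheme of finite type containing all `k`-points is everything. -/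
theorem eq_top_of_kpoints (T : Over (B0 k)) [IsAffine T.left] [LocallyOfFiniteType T.hom] (U : T.left.Opens)
    (h : ∀ p : Spec (CommRingCat.of k) ⟶ T.left, p ≫ T.hom = 𝟙 _ → p (IsLocalRing.closedPoint k) ∈ U) :
    U = ⊤ := by
  let R := Γ(T.left, ⊤)
  let κ : k →+* R := (T.hom.appTop.hom).comp (Scheme.ΓSpecIso (CommRingCat.of k)).inv.hom
  have hκ : κ.FiniteType := by
    have h1 : T.hom.appTop.hom.FiniteType := (HasRingHomProperty.iff_of_isAffine (P := @LocallyOfFiniteType)).1 ‹_›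
    exact h1.comp (RingHom.FiniteType.of_surjective _ (ConcreteCategory.bijective_of_isIso
      (Scheme.ΓSpecIso (CommRingCat.of k)).inv).2)
  have h1 : T.left.isoSpec.inv ⁻¹ᵁ U = ⊤ := by
    refine K670.RankPt.eq_top_of_points κ hκ _ fun q hq => ?_
    refine h (Spec.map (CommRingCat.ofHom q) ≫ T.left.isoSpec.inv) ?_
    rw [Category.assoc, ← Scheme.isoSpec_inv_naturality, Scheme.isoSpec_Spec_inv, ← Spec.map_comp, ← Spec.map_comp,
      ← Spec.map_id]
    congr 1
    ext c
    exact congrArg (fun φ : k →+* k => φ c) hq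
  have h2 : U = T.left.isoSpec.hom ⁻¹ᵁ (T.left.isoSpec.inv ⁻¹ᵁ U) := by
    rw [← Scheme.Hom.comp_preimage, Iso.hom_inv_id, Scheme.Hom.id_preimage]
  rw [h2, h1]
  rfl

variable (hdim : topologicalKrullDim X = 1)

include hdim

/-- A family over an affine scheme of finite type is admissible if its fibres at `k`-points are semistable. -/
theorem ussOK_of_points {r : ℕ} (hr : 1 ≤ r) (T : Over (B0 k)) [IsAffine T.left] [LocallyOfFiniteType T.hom]
    (F : (PicF.XT (st k X) T).Modules) (hF : FlatMod.IsFinLocFreeOfRank r F)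
    (h : ∀ (p : Spec (CommRingCat.of k) ⟶ T.left) (hp : p ≫ T.hom = 𝟙 _),
      SS k ((Scheme.Modules.pullback (ip (X := X) T p hp)).obj F) ∧
        dg k ((Scheme.Modules.pullback (ip (X := X) T p hp)).obj F) = 0) :
    BunMod.ussOK (st k X) r 0 T F := by
  have : IsLocallyNoetherian T.left := LocallyOfFiniteType.isLocallyNoetherian T.hom
  have : IsNoetherian T.left := ⟨⟩
  have key : ∀ (x : T.left), ∃ U : T.left.Opens, x ∈ U ∧
      ∀ (Ω : Type u) [Field Ω] (t : Spec (CommRingCat.of Ω) ⟶ T.left), Set.range t ⊆ U →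
        SSB r (t ≫ T.hom) (pl k X (Over.homMk t rfl) F) := by
    let V : T.left.Opens := sSup {U | ∀ (Ω : Type u) [Field Ω] (t : Spec (CommRingCat.of Ω) ⟶ T.left),
      Set.range t ⊆ U → SSB r (t ≫ T.hom) (pl k X (Over.homMk t rfl) F)}
    have hV : V = ⊤ := by
      refine eq_top_of_kpoints T V fun p hp => ?_
      obtain ⟨U, hU, hU'⟩ := K846.SSOpen.exists_open k X hdim hr T F hF k p
        (ssb_of_ss T p hp hF hdim (h p hp).1 (h p hp).2)
      exact TopologicalSpace.Opens.mem_sSup.2 ⟨U, hU', hU ⟨_, rfl⟩⟩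
    intro x
    have hx : x ∈ V := by rw [hV]; trivial
    obtain ⟨U, h1, h2⟩ := TopologicalSpace.Opens.mem_sSup.1 hx
    exact ⟨U, h2, h1⟩
  have key2 : ∀ (Ω : Type u) [Field Ω] (t : Spec (CommRingCat.of Ω) ⟶ T.left),
      SSB r (t ≫ T.hom) (pl k X (Over.homMk t rfl) F) := by
    intro Ω _ t
    obtain ⟨U, h1, h2⟩ := key (t (IsLocalRing.closedPoint Ω))
    refine h2 Ω t ?_
    rintro _ ⟨x, rfl⟩
    rwa [K846.FieldPt.eq_closedPoint x (IsLocalRing.closedPoint Ω)]
  exact ⟨hF, fun Ω _ _ t => (key2 Ω t).2.1, fun Ω _ _ t => (key2 Ω t).2.2⟩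

end points

section twist

omit [IsProper (X ↘ Spec (CommRingCat.of k))] [Smooth (X ↘ Spec (CommRingCat.of k))]
  [GeometricallyConnected (X ↘ Spec (CommRingCat.of k))] [IsIntegral X] in
/-- The fibre of a constant family. -/
theorem nonempty_ip_cst (T : Over (B0 k)) (p : Spec (CommRingCat.of k) ⟶ T.left) (hp : p ≫ T.hom = 𝟙 _)
    (N' : X.Modules) : Nonempty ((Scheme.Modules.pullback (ip (X := X) T p hp)).obj (cst k T N') ≅ N') := by
  obtain ⟨e1⟩ := K757.Fam.pull_comp (ip (X := X) T p hp) (pullback.fst (st k X) T.hom) N'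
  obtain ⟨e2⟩ := K757.Fam.pull_hom_congr (ip_fst (X := X) T p hp) N'
  obtain ⟨e3⟩ := K757.Fam.pull_id N'
  exact ⟨e1.symm ≪≫ e2 ≪≫ e3⟩

omit [IsProper (X ↘ Spec (CommRingCat.of k))] [Smooth (X ↘ Spec (CommRingCat.of k))]
  [GeometricallyConnected (X ↘ Spec (CommRingCat.of k))] [IsIntegral X] in
/-- The fibre of a twist by a constant family. -/
theorem nonempty_ip_tw (T : Over (B0 k)) (p : Spec (CommRingCat.of k) ⟶ T.left) (hp : p ≫ T.hom = 𝟙 _)
    (F : (PicF.XT (st k X) T).Modules) (N' : X.Modules) :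
    Nonempty ((Scheme.Modules.pullback (ip (X := X) T p hp)).obj (CohB1.tensorMod F (cst k T N')) ≅
      CohB1.tensorMod ((Scheme.Modules.pullback (ip (X := X) T p hp)).obj F) N') := by
  obtain ⟨e1⟩ := K757.Fam.pull_tens (ip (X := X) T p hp) F (cst k T N')
  obtain ⟨e2⟩ := K757.Fam.tens_congr ⟨Iso.refl ((Scheme.Modules.pullback (ip (X := X) T p hp)).obj F)⟩
    (nonempty_ip_cst T p hp N')
  exact ⟨e1 ≪≫ e2⟩

omit [Smooth (X ↘ Spec (CommRingCat.of k))] [GeometricallyConnected (X ↘ Spec (CommRingCat.of k))] in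
theorem ss_tw (C : Crv k X) {E L : X.Modules} {r : ℕ} (hE : FlatMod.IsFinLocFreeOfRank r E)
    (hL : PicF.IsInvertible L) (h : SS k E) : SS k (CohB1.tensorMod E L) :=
  (ss_iff C (K757.Geo.rank_tw C hE hL)).2 (K757.Geo.ssk_tw C hE hL ((ss_iff C hE).1 h))

omit [Smooth (X ↘ Spec (CommRingCat.of k))] [GeometricallyConnected (X ↘ Spec (CommRingCat.of k))] in
theorem st_tw (C : Crv k X) {E L : X.Modules} {r : ℕ} (hE : FlatMod.IsFinLocFreeOfRank r E)
    (hL : PicF.IsInvertible L) (h : St k E) : St k (CohB1.tensorMod E L) :=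
  (st_iff (K757.Geo.rank_tw C hE hL)).2 (K757.Geo.stk_tw C hE hL ((st_iff hE).1 h))

variable [IsAlgClosed k]

omit [Smooth (X ↘ Spec (CommRingCat.of k))] [GeometricallyConnected (X ↘ Spec (CommRingCat.of k))] in
/-- The degree of the twist of a bundle without Euler characteristic. -/
theorem dg_tw_of_euler (C : Crv k X) {g : ℕ} (hg : Curv2.genus k X = g) {E L : X.Modules} {r : ℕ}
    (hE : FlatMod.IsFinLocFreeOfRank r E) (hL : PicF.IsInvertible L) (hd : Curv2.deg k X L 1 = 1 - (g : ℤ))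
    (h0 : Curv2.euler k X E = 0) : dg k (CohB1.tensorMod E L) = 0 := by
  rw [dg_of_rank k (K757.Geo.rank_tw C hE hL), K757.Geo.deg_tw C hE hL, hd]
  have h1 := K703.Chi.euler_structure k (X := X) C.dim
  rw [hg] at h1
  rw [Curv2.deg, h0, h1]
  ring

/-- **The twist of a family with semistable fibres of Euler characteristic zero is admissible.** -/
theorem ussOK_tw (hdim : topologicalKrullDim X = 1) {g : ℕ} (hg : Curv2.genus k X = g) {r : ℕ} (hr : 1 ≤ r)
    {N' : X.Modules} (hN' : PicF.IsInvertible N') (hd : Curv2.deg k X N' 1 = 1 - (g : ℤ))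
    (T : Over (B0 k)) [IsAffine T.left] [LocallyOfFiniteType T.hom] (F : (PicF.XT (st k X) T).Modules)
    (hF : FlatMod.IsFinLocFreeOfRank r F)
    (h : ∀ (p : Spec (CommRingCat.of k) ⟶ T.left) (hp : p ≫ T.hom = 𝟙 _),
      SS k ((Scheme.Modules.pullback (ip (X := X) T p hp)).obj F) ∧
        Curv2.euler k X ((Scheme.Modules.pullback (ip (X := X) T p hp)).obj F) = 0) :
    BunMod.ussOK (st k X) r 0 T (CohB1.tensorMod F (cst k T N')) := by
  have C : Crv k X := Crv.of_smooth hdim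
  refine ussOK_of_points hdim hr T _ (K757.Geo.rank_tens hF (K757.Fam.inv_pull _ hN')) fun p hp => ?_
  obtain ⟨e⟩ := nonempty_ip_tw T p hp F N'
  have hr' : FlatMod.IsFinLocFreeOfRank r ((Scheme.Modules.pullback (ip (X := X) T p hp)).obj F) :=
    K757.Geo.rank_pull _ hF
  refine ⟨ss_iso e.symm (ss_tw C hr' hN' (h p hp).1), ?_⟩
  rw [dg_iso k e]
  exact dg_tw_of_euler C hg hr' hN' hd (h p hp).2

end twist

end K619.Adm
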