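import Groth.Agent.ShStab.K846.SSOpen

/-!
# Semistable families over local bases (helper619)

`ssb_gen`: on a Noetherian base semistability (degree 0) of the fibre at a field-valued point implies semistability of
the fibre at every field-valued point lying over a generization (in particular over the same point: independence of
the field).  `ussOK_of_closed`, `ussOK_spec`: a family over a local Noetherian base is admissible as soon as ONE fibre over
the closed point is semistable of degree 0.
-/

set_option autoImplicit false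
universe u

open CategoryTheory CategoryTheory.Limits AlgebraicGeometry

namespace K619.LocSS

open Groth.Agent K140.BM

variable {k : Type u} [Field k] {X : Scheme.{u}} [X.Over (Spec (CommRingCat.of k))]
  [IsProper (X ↘ Spec (CommRingCat.of k))] [Smooth (X ↘ Spec (CommRingCat.of k))]
  [GeometricallyConnected (X ↘ Spec (CommRingCat.of k))] (hdim : topologicalKrullDim X = 1)

include hdim

/-- **Semistability passes to generizations** and does not depend on the field. -/
theorem ssb_gen {r : ℕ} (hr : 1 ≤ r) {T : Over (B0 k)} [IsNoetherian T.left]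
    {F : (PicF.XT (st k X) T).Modules} (hF : FlatMod.IsFinLocFreeOfRank r F)
    {Ω : Type u} [Field Ω] (t : Spec (CommRingCat.of Ω) ⟶ T.left)
    (hss : SSB r (t ≫ T.hom) (pl k X (Over.homMk t rfl) F))
    {Ω₁ : Type u} [Field Ω₁] (t₁ : Spec (CommRingCat.of Ω₁) ⟶ T.left)
    (h : t₁ (IsLocalRing.closedPoint Ω₁) ⤳ t (IsLocalRing.closedPoint Ω)) :
    SSB r (t₁ ≫ T.hom) (pl k X (Over.homMk t₁ rfl) F) := by
  obtain ⟨U, hU, hU'⟩ := K846.SSOpen.exists_open k X hdim hr T F hF Ω t hss
  refine hU' Ω₁ t₁ ?_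
  rintro _ ⟨x, rfl⟩
  rw [K846.FieldPt.eq_closedPoint x (IsLocalRing.closedPoint Ω₁)]
  exact h.mem_open U.2 (hU ⟨_, rfl⟩)

/-- The fibre at a field-valued point only depends on the point of the base. -/
theorem ssb_iff_same {r : ℕ} (hr : 1 ≤ r) {T : Over (B0 k)} [IsNoetherian T.left]
    {F : (PicF.XT (st k X) T).Modules} (hF : FlatMod.IsFinLocFreeOfRank r F)
    {Ω : Type u} [Field Ω] (t : Spec (CommRingCat.of Ω) ⟶ T.left)
    {Ω₁ : Type u} [Field Ω₁] (t₁ : Spec (CommRingCat.of Ω₁) ⟶ T.left)
    (h : t₁ (IsLocalRing.closedPoint Ω₁) = t (IsLocalRing.closedPoint Ω)) :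
    SSB r (t ≫ T.hom) (pl k X (Over.homMk t rfl) F) ↔ SSB r (t₁ ≫ T.hom) (pl k X (Over.homMk t₁ rfl) F) :=
  ⟨fun h1 => ssb_gen hdim hr hF t h1 t₁ (by rw [h]), fun h1 => ssb_gen hdim hr hF t₁ h1 t (by rw [h])⟩

/-- A family over a Noetherian base is admissible as soon as every point specializes to a point with a semistable
fibre (for ONE field-valued point over it). -/
theorem ussOK_of_spec {r : ℕ} (hr : 1 ≤ r) (T : Over (B0 k)) [IsNoetherian T.left]
    (F : (PicF.XT (st k X) T).Modules) (hF : FlatMod.IsFinLocFreeOfRank r F)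
    (h : ∀ x : T.left, ∃ (Ω : Type u) (_ : Field Ω) (t : Spec (CommRingCat.of Ω) ⟶ T.left),
      x ⤳ t (IsLocalRing.closedPoint Ω) ∧ SSB r (t ≫ T.hom) (pl k X (Over.homMk t rfl) F)) :
    BunMod.ussOK (st k X) r 0 T F := by
  have key : ∀ (Ω : Type u) [Field Ω] (t : Spec (CommRingCat.of Ω) ⟶ T.left),
      SSB r (t ≫ T.hom) (pl k X (Over.homMk t rfl) F) := by
    intro Ω _ t
    obtain ⟨Ω₁, _, t₁, h1, h2⟩ := h (t (IsLocalRing.closedPoint Ω))
    exact ssb_gen hdim hr hF t₁ h2 t h1
  exact ⟨hF, fun Ω _ _ t => (key Ω t).2.1, fun Ω _ _ t => (key Ω t).2.2⟩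

/-- **A family over a local base** is admissible if the closed fibre is. -/
theorem ussOK_of_closed {r : ℕ} (hr : 1 ≤ r) (T : Over (B0 k)) [IsNoetherian T.left]
    (F : (PicF.XT (st k X) T).Modules) (hF : FlatMod.IsFinLocFreeOfRank r F)
    {Ω : Type u} [Field Ω] (t : Spec (CommRingCat.of Ω) ⟶ T.left)
    (hx : ∀ x : T.left, x ⤳ t (IsLocalRing.closedPoint Ω))
    (hss : SSB r (t ≫ T.hom) (pl k X (Over.homMk t rfl) F)) :
    BunMod.ussOK (st k X) r 0 T F :=
  ussOK_of_spec hdim hr T F hF fun x => ⟨Ω, inferInstance, t, hx x, hss⟩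

/-- **A family over the spectrum of a Noetherian local ring** is admissible if the fibre at one field-valued point over
the closed point is semistable of degree 0 (`φ : R → Ω` a local homomorphism to a field). -/
theorem ussOK_spec {r : ℕ} (hr : 1 ≤ r) {R : Type u} [CommRing R] [IsLocalRing R] [IsNoetherianRing R]
    (s : Spec (CommRingCat.of R) ⟶ B0 k) (F : (PicF.XT (st k X) (Over.mk s)).Modules)
    (hF : FlatMod.IsFinLocFreeOfRank r F) {Ω : Type u} [Field Ω] (φ : R →+* Ω) [IsLocalHom φ]
    (hss : SSB r (Spec.map (CommRingCat.ofHom φ) ≫ s)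
      (pl k X (Over.homMk (Spec.map (CommRingCat.ofHom φ)) rfl : Over.mk (Spec.map (CommRingCat.ofHom φ) ≫ s) ⟶
        Over.mk s) F)) :
    BunMod.ussOK (st k X) r 0 (Over.mk s) F := by
  have hN : IsNoetherian (Over.mk s).left := inferInstanceAs (IsNoetherian (Spec (CommRingCat.of R)))
  refine ussOK_of_closed hdim hr (Over.mk s) F hF (Spec.map (CommRingCat.ofHom φ)) ?_ hss
  intro x
  have h1 : (Spec.map (CommRingCat.ofHom φ)) (IsLocalRing.closedPoint Ω) = IsLocalRing.closedPoint R :=
    IsLocalRing.comap_closedPoint φ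
  have h2 : (x : PrimeSpectrum R) ⤳ IsLocalRing.closedPoint R := IsLocalRing.specializes_closedPoint x
  exact h1 ▸ h2

end K619.LocSS
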