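import Groth.Agent.BunMod.K325.GeomFib
import Groth.Agent.BunMod.K670.FamPt
import Groth.Agent.CInt.K139.FibFree
import Groth.Agent.CurvesB.SubClosed
import Groth.Agent.Krr.H498.PushRes
import Groth.Agent.FormalA.PullbackQC
import Groth.Agent.Sga67.CohBasic
import Groth.Agent.PerfB.FibreConc
import Groth.Agent.Ega3A.FlatSES
import Groth.Agent.ShStab.K846.SSOpen

/-!
# The Hecke families are families of vector bundles (helper619)

`rank_Fm` : the module `K670.Fam.Fm` (kernel of `V_T ⟶ γ_* O_T`) is finite locally free of rank `r`.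
-/

set_option autoImplicit false
universe u

open CategoryTheory CategoryTheory.Limits AlgebraicGeometry

namespace K619.RankFm

open Groth.Agent Groth.Agent.VarietyA.DegRank K140.BM K707.Base K707.Deg K707.Slope K707.Semi K325.GeomFib
  Groth.Agent.Sga67.Sec Groth.Agent.Sga67.LocBasis K670.MapTo K670.Fam

/-- A coherent module, flat over the base, which is locally free of rank `n` on the fibres is locally free of rank
`n`. -/
theorem rank_of_fibres {W T : Scheme.{u}} (p : W ⟶ T) [IsLocallyNoetherian W] {G : W.Modules} (hG : Coh.IsCoh G)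
    (hfl : FlatMod.IsFlatOver p G) {n : ℕ}
    (h : ∀ t : T, FlatMod.IsFinLocFreeOfRank n ((Scheme.Modules.pullback (p.fiberι t)).obj G)) :
    FlatMod.IsFinLocFreeOfRank n G := by
  intro x
  let z := p.asFiber x
  have hz : p.fiberι (p x) z = x := p.fiberι_asFiber x
  have h1 := K139.FibFree.free_stalk_of_free_fiber p hG hfl (p x) z (free_stalk (h (p x)) z)
  rw [hz] at h1
  obtain ⟨V, m, hx, e⟩ := Groth.Agent.Divis.StalkMod.exists_free_nhd hG x h1
  obtain ⟨b, hb⟩ := Groth.Agent.Sga67.LocBasis.nonempty_restrict_iso_iff.mp e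
  have hb' := Groth.Agent.Krr.H487.LocBasisPull.isLocBasis_pbS (p.fiberι (p x)) hb
  obtain ⟨β, -⟩ := Groth.Agent.Krr.H487.LocBasisPull.exists_stalkBasis hb' z (by
    change p.fiberι (p x) z ∈ V
    rw [hz]
    exact hx)
  have h2 := finrank_stalk (h (p x)) z
  rw [Module.finrank_eq_card_basis β, Fintype.card_fin] at h2
  subst h2
  exact ⟨V, hx, e⟩

/-- The kernel of a surjection of flat modules is flat. -/
theorem isFlatOver_X₁ {W T : Scheme.{u}} (p : W ⟶ T) {S : ShortComplex W.Modules} (hS : S.ShortExact)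
    (h₂ : FlatMod.IsFlatOver p S.X₂) (h₃ : FlatMod.IsFlatOver p S.X₃) : FlatMod.IsFlatOver p S.X₁ := by
  intro x
  let a0 : Algebra (T.presheaf.stalk (p x)) (W.presheaf.stalk x) := (p.stalkMap x).hom.toAlgebra
  let a1 := FlatMod.moduleStalkOver p S.X₁ x
  let a2 := FlatMod.moduleStalkOver p S.X₂ x
  let a3 := FlatMod.moduleStalkOver p S.X₃ x
  have s1 : IsScalarTower (T.presheaf.stalk (p x)) (W.presheaf.stalk x) (S.X₁.presheaf.stalk x) :=
    IsScalarTower.of_algebraMap_smul fun r m => rfl
  have s2 : IsScalarTower (T.presheaf.stalk (p x)) (W.presheaf.stalk x) (S.X₂.presheaf.stalk x) :=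
    IsScalarTower.of_algebraMap_smul fun r m => rfl
  have s3 : IsScalarTower (T.presheaf.stalk (p x)) (W.presheaf.stalk x) (S.X₃.presheaf.stalk x) :=
    IsScalarTower.of_algebraMap_smul fun r m => rfl
  obtain ⟨h4, h5, h6⟩ := Groth.Agent.CycB.StalkExact.stalkLin_shortExact S hS x
  have h7 : Module.Flat (T.presheaf.stalk (p x)) (S.X₂.presheaf.stalk x) := h₂ x
  have h8 : Module.Flat (T.presheaf.stalk (p x)) (S.X₃.presheaf.stalk x) := h₃ x
  exact Groth.Agent.Ega3A.FlatSES.flat_left
    (f := (Groth.Agent.CycB.StalkExact.stalkLin S.f x).restrictScalars (T.presheaf.stalk (p x)))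
    (g := (Groth.Agent.CycB.StalkExact.stalkLin S.g x).restrictScalars (T.presheaf.stalk (p x))) h4 h5 h6

variable {k : Type u} [Field k] {X : Scheme.{u}} [X.Over (Spec (CommRingCat.of k))]
  [IsProper (X ↘ Spec (CommRingCat.of k))] [Smooth (X ↘ Spec (CommRingCat.of k))]
  [GeometricallyConnected (X ↘ Spec (CommRingCat.of k))]

variable (T : Over (B0 k)) (y : T.left ⟶ X) (hy : y ≫ st k X = T.hom)
  {V : X.Modules} {U : X.Opens} {r : ℕ} {b : Fin r → Sec V U} (hb : IsLocBasis b) (hU : ⊤ ≤ y ⁻¹ᵁ U)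

theorem nc_fib (hdim : topologicalKrullDim X = 1) {Ω : Type u} [Field Ω] {P : Scheme.{u}}
    {g' : P ⟶ PicF.XT (st k X) T} {q : P ⟶ Spec (CommRingCat.of Ω)} {t : Spec (CommRingCat.of Ω) ⟶ T.left}
    (H : IsPullback g' q (PicF.XTproj (st k X) T) t) : NC q :=
  NC.of_isPullback (f := st k X) hdim (H.paste_horiz (IsPullback.of_hasPullback (st k X) T.hom))

/-- The fibres of the family. -/
theorem rank_fib (hdim : topologicalKrullDim X = 1) [IsLocallyNoetherian T.left]
    (hV : FlatMod.IsFinLocFreeOfRank r V) (a c : Fin r → Γ(T.left, ⊤)) (hc : ∑ i, c i * a i = 1)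
    {Ω : Type u} [Field Ω] {P : Scheme.{u}}
    {g' : P ⟶ PicF.XT (st k X) T} {q : P ⟶ Spec (CommRingCat.of Ω)} {t : Spec (CommRingCat.of Ω) ⟶ T.left}
    (H : IsPullback g' q (PicF.XTproj (st k X) T) t) :
    FlatMod.IsFinLocFreeOfRank r ((Scheme.Modules.pullback g').obj (Fm T y hy hb hU a)) := by
  obtain ⟨h1, h2, h3⟩ := nc_fib T hdim H
  let _ : P.Over (Spec (CommRingCat.of Ω)) := ⟨q⟩
  have : IsProper (P ↘ Spec (CommRingCat.of Ω)) := h2
  have hS := Groth.Agent.Surf.K460.FlatExt.shortExact_pullback H _ (sq_shortExact T y hy hb hU a c hc)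
    (flat_gam T y hy)
  obtain ⟨e₁⟩ := nonempty_kernel_iso _ _ hS
  let ψ := (Scheme.Modules.pullback g').map (hk T y hy hb hU a)
  have hepi : Epi ψ := hS.epi_g
  obtain ⟨e, -⟩ := exists_bc_hk T y hy hb hU H a
  have hVP : FlatMod.IsFinLocFreeOfRank r ((Scheme.Modules.pullback g').obj (cst k T V)) :=
    PerfB.FibreConc.isFinLocFreeOfRank_pullback _ (PerfB.FibreConc.isFinLocFreeOfRank_pullback _ hV)
  have hcl : IsClosedImmersion (gam' T y hy H) := by
    have h5 : IsSeparated q := inferInstance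
    have h4 : IsClosedImmersion (gam' T y hy H ≫ q) := by rw [gam'_snd]; infer_instance
    exact IsClosedImmersion.of_comp (gam' T y hy H) q
  have hQ : Coh.IsCoh ((Scheme.Modules.pullback g').obj
      ((Scheme.Modules.pushforward (gam T y hy)).obj (Coh.structureModule T.left))) :=
    coh_iso e.symm (Groth.Agent.Krr.H498.PushRes.isCoh_pushforward _
      (Groth.Agent.Fdesc.StructMod.isCoh_structureModule _))
  have h0 : Subsingleton (((Scheme.Modules.pushforward (gam' T y hy H)).obj
      (Coh.structureModule (Spec (CommRingCat.of Ω)))).presheaf.stalk (genericPoint P)) := by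
    apply Groth.Agent.CurvesB.SubClosed.subsingleton_stalk_push
    rintro ⟨x, hx⟩
    have h5 : IsClosed ({(gam' T y hy H) x} : Set P) := by
      have h6 : Set.range (gam' T y hy H) = {(gam' T y hy H) x} := by
        ext z
        constructor
        · rintro ⟨w, rfl⟩
          rw [Subsingleton.elim (α := PrimeSpectrum Ω) w x]
          rfl
        · rintro rfl
          exact ⟨x, rfl⟩
      rw [← h6]
      exact (gam' T y hy H).isClosedEmbedding.isClosed_range
    exact VarietyA.RegPoint.ne_genericPoint_of_isClosed h3.dim h5 hx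
  have hrk : rk ((Scheme.Modules.pullback g').obj
      ((Scheme.Modules.pushforward (gam T y hy)).obj (Coh.structureModule T.left))) = 0 := by
    rw [rk_iso e]
    exact rk_eq_zero_of_subsingleton h0
  obtain ⟨e3, -⟩ := epi_numbers h3 ψ (isCoh_of_rank hVP) hQ
  rw [hrk, rk_of_rank hVP, add_zero] at e3
  have h4 := isFinLocFreeOfRank_rk (vb_kernel h3 ψ (isFinLocFree_of_rank hVP) hQ)
  rw [← e3] at h4
  exact rank_iso e₁.symm h4

/-- **The Hecke families are finite locally free.** -/
theorem rank_Fm (hdim : topologicalKrullDim X = 1) [IsLocallyNoetherian T.left]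
    (hV : FlatMod.IsFinLocFreeOfRank r V) (a c : Fin r → Γ(T.left, ⊤)) (hc : ∑ i, c i * a i = 1) :
    FlatMod.IsFinLocFreeOfRank r (Fm T y hy hb hU a) := by
  have hnX : IsLocallyNoetherian (PicF.XT (st k X) T) :=
    LocallyOfFiniteType.isLocallyNoetherian (PicF.XTproj (st k X) T)
  have := isClosedImmersion_gam T y hy
  have hVT : FlatMod.IsFinLocFreeOfRank r (cst k T V) := PerfB.FibreConc.isFinLocFreeOfRank_pullback _ hV
  have hQ : Coh.IsCoh ((Scheme.Modules.pushforward (gam T y hy)).obj (Coh.structureModule T.left)) :=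
    Groth.Agent.Krr.H498.PushRes.isCoh_pushforward _ (Groth.Agent.Fdesc.StructMod.isCoh_structureModule _)
  have hF : Coh.IsCoh (Fm T y hy hb hU a) :=
    Groth.Agent.Sga67.CohBasic.isCoh_kernel _ (isCoh_of_rank hVT) hQ.1
  refine rank_of_fibres (PicF.XTproj (st k X) T) hF ?_ fun t => ?_
  · exact isFlatOver_X₁ (PicF.XTproj (st k X) T) (sq_shortExact T y hy hb hU a c hc)
      (K846.SSOpen.isFlatOver_of_rank (PicF.XTproj (st k X) T) hVT) (flat_gam T y hy)
  · exact rank_fib T y hy hb hU hdim hV a c hc (IsPullback.of_hasPullback (PicF.XTproj (st k X) T) (T.left.fromSpecResidueField t))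

end K619.RankFm
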