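import Groth.Agent.BunMod.K619.Adm
import Groth.Agent.BunMod.K562.Jump

/-!
# Admissible families over the base field (helper619)
-/

set_option autoImplicit false
universe u

open CategoryTheory CategoryTheory.Limits AlgebraicGeometry

namespace K619.Adm

open Groth.Agent Groth.Agent.VarietyA.DegRank K140.BM K707.Base K707.Deg K707.Slope K707.Semi K325.GeomFib
  K325.StabFib K670.Fam KPt

variable {k : Type u} [Field k] {X : Scheme.{u}} [X.Over (Spec (CommRingCat.of k))]

section gen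

variable [IsProper (X ↘ Spec (CommRingCat.of k))] [Smooth (X ↘ Spec (CommRingCat.of k))]
  [GeometricallyConnected (X ↘ Spec (CommRingCat.of k))] [IsIntegral X] [IsAlgClosed k]

/-- The fibre of an admissible family at a `k`-point. -/
theorem facts_ip (hdim : topologicalKrullDim X = 1) {T : Over (B0 k)} {E : (PicF.XT (st k X) T).Modules} {r : ℕ}
    (hE : BunMod.ussOK (st k X) r 0 T E) (p : Spec (CommRingCat.of k) ⟶ T.left) (hp : p ≫ T.hom = 𝟙 _) :
    FlatMod.IsFinLocFreeOfRank r ((Scheme.Modules.pullback (ip (X := X) T p hp)).obj E) ∧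
      dg k ((Scheme.Modules.pullback (ip (X := X) T p hp)).obj E) = 0 ∧
      SS k ((Scheme.Modules.pullback (ip (X := X) T p hp)).obj E) := by
  let _ : (PicF.XT (st k X) (Over.mk (p ≫ T.hom))).Over (Spec (CommRingCat.of k)) :=
    ⟨PicF.XTproj (st k X) (Over.mk (p ≫ T.hom))⟩
  obtain ⟨h1, h2, h3⟩ := nc (X := X) hdim T p
  have : IsProper (PicF.XT (st k X) (Over.mk (p ≫ T.hom)) ↘ Spec (CommRingCat.of k)) := h2
  have := isIso_cmp (X := X) T p hp
  obtain ⟨g1, g2, g3⟩ := facts hE p hdim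
  obtain ⟨e⟩ := nonempty_iso T p hp E
  have h6 := PullIso.dg_pull (k := k) (cmp (X := X) T p hp) (cmp_snd T p hp) (isFinLocFree_of_rank g1)
  have hi : inv (cmp (X := X) T p hp) ≫ (X ↘ Spec (CommRingCat.of k)) =
      PicF.XT (st k X) (Over.mk (p ≫ T.hom)) ↘ Spec (CommRingCat.of k) := by
    rw [IsIso.inv_comp_eq]
    exact (cmp_snd T p hp).symm
  have h7 := ss_pull_of (k := k) (cmp (X := X) T p hp) (inv (cmp T p hp)) (by simp) hi (cmp_snd T p hp)
    (isFinLocFree_of_rank g1) g3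
  refine ⟨K757.Geo.rank_pull _ hE.1, ?_, ss_iso e.symm h7⟩
  rw [dg_iso k e, h6]
  exact g2

omit [GeometricallyConnected (X ↘ Spec (CommRingCat.of k))] [Smooth (X ↘ Spec (CommRingCat.of k))] in
theorem euler_of_dg (C : Crv k X) {g : ℕ} (hg : Curv2.genus k X = g) {E L : X.Modules} {r : ℕ}
    (hE : FlatMod.IsFinLocFreeOfRank r E) (hL : PicF.IsInvertible L) (hd : Curv2.deg k X L 1 = (g : ℤ) - 1)
    (h0 : dg k E = 0) : Curv2.euler k X (CohB1.tensorMod E L) = 0 := by
  have h1 := K703.Chi.euler_structure k (X := X) C.dim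
  have h2 := K757.Geo.deg_tw C hE hL
  rw [hg] at h1
  rw [dg_of_rank k hE] at h0
  rw [hd, h0, Curv2.deg, h1] at h2
  linarith

end gen

section base

variable (k X) in
/-- The base field as a test scheme. -/
noncomputable abbrev T0 : Over (B0 k) := Over.mk (𝟙 (B0 k))

variable (k X) in
/-- The identification of `X` with `X_{T0}`. -/
noncomputable abbrev ι0 : X ⟶ PicF.XT (st k X) (T0 k) := ip (T0 k) (𝟙 _) (Category.comp_id _)

theorem fst_ι0 : pullback.fst (st k X) (T0 k).hom ≫ ι0 k X = 𝟙 _ := by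
  have h1 : IsIso (pullback.fst (st k X) (T0 k).hom) := inferInstanceAs (IsIso (pullback.fst (st k X) (𝟙 _)))
  rw [← cancel_mono (pullback.fst (st k X) (T0 k).hom), Category.assoc, ip_fst, Category.comp_id, Category.id_comp]

theorem isIso_ι0 : IsIso (ι0 k X) := ⟨pullback.fst (st k X) (T0 k).hom, ip_fst _ _ _, fst_ι0⟩

/-- Every family over the base field is constant. -/
theorem nonempty_cst_iso (E : (PicF.XT (st k X) (T0 k)).Modules) :
    Nonempty (E ≅ cst k (T0 k) ((Scheme.Modules.pullback (ι0 k X)).obj E)) := by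
  obtain ⟨e1⟩ := K757.Fam.pull_comp (pullback.fst (st k X) (T0 k).hom) (ι0 k X) E
  obtain ⟨e2⟩ := K757.Fam.pull_hom_congr (fst_ι0 (k := k) (X := X)) E
  obtain ⟨e3⟩ := K757.Fam.pull_id E
  exact ⟨e3.symm ≪≫ e2.symm ≪≫ e1⟩

/-- Every family over the base field is a constant family twisted by a constant line bundle. -/
theorem nonempty_cst_iso_tw (E : (PicF.XT (st k X) (T0 k)).Modules) {N N' : X.Modules}
    (hN : Nonempty (CohB1.tensorMod N N' ≅ Coh.structureModule X)) :
    Nonempty (E ≅ cst k (T0 k) (CohB1.tensorMod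
      (CohB1.tensorMod ((Scheme.Modules.pullback (ι0 k X)).obj E) N) N')) := by
  obtain ⟨e0⟩ := nonempty_cst_iso (k := k) (X := X) E
  obtain ⟨e1⟩ := K757.Fam.tens_assoc ((Scheme.Modules.pullback (ι0 k X)).obj E) N N'
  obtain ⟨e2⟩ := K757.Fam.tens_congr ⟨Iso.refl ((Scheme.Modules.pullback (ι0 k X)).obj E)⟩ hN
  obtain ⟨e3⟩ := K757.Fam.tens_unit ((Scheme.Modules.pullback (ι0 k X)).obj E)
  obtain ⟨e4⟩ := K757.Fam.pull_congr (pullback.fst (st k X) (T0 k).hom) ⟨e3.symm ≪≫ e2.symm ≪≫ e1.symm⟩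
  exact ⟨e0 ≪≫ e4⟩

variable [IsProper (X ↘ Spec (CommRingCat.of k))] [Smooth (X ↘ Spec (CommRingCat.of k))]
  [GeometricallyConnected (X ↘ Spec (CommRingCat.of k))] [IsIntegral X] [IsAlgClosed k]

/-- Stability over the base field, in terms of `StabAt`. -/
theorem st_of_stabAt (hdim : topologicalKrullDim X = 1) {E : (PicF.XT (st k X) (T0 k)).Modules}
    (h : K562.Jump.StabAt k (𝟙 (B0 k)) E) : St k ((Scheme.Modules.pullback (ι0 k X)).obj E) := by
  let _ : (PicF.XT (st k X) (T0 k)).Over (Spec (CommRingCat.of k)) := ⟨PicF.XTproj (st k X) (T0 k)⟩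
  obtain ⟨n, h1, h2⟩ := h
  obtain ⟨g1, g2, g3⟩ : NC (PicF.XTproj (st k X) (T0 k)) :=
    NC.of_isPullback hdim (IsPullback.of_hasPullback (st k X) (𝟙 _))
  have : IsProper (PicF.XT (st k X) (T0 k) ↘ Spec (CommRingCat.of k)) := g2
  have := isIso_ι0 (k := k) (X := X)
  have h3 : ι0 k X ≫ (PicF.XT (st k X) (T0 k) ↘ Spec (CommRingCat.of k)) = X ↘ Spec (CommRingCat.of k) := by
    have h4 := ip_snd (X := X) (T0 k) (𝟙 _) (Category.comp_id _)
    rw [Category.comp_id] at h4
    exact h4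
  have h5 : St k E := (st_iff h1).2 h2
  exact (PullIso.st_pull_iff (k := k) (ι0 k X) h3 (isFinLocFree_of_rank h1)).2 h5

/-- **Admissible families over the base field in terms of bundles of Euler characteristic zero.** -/
theorem base_facts (hdim : topologicalKrullDim X = 1) {g : ℕ} (hg : Curv2.genus k X = g) {r : ℕ}
    {N N' : X.Modules} (hN : PicF.IsInvertible N) (hNN : Nonempty (CohB1.tensorMod N N' ≅ Coh.structureModule X))
    (hd : Curv2.deg k X N 1 = (g : ℤ) - 1) {E : (PicF.XT (st k X) (T0 k)).Modules}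
    (hE : BunMod.ussOK (st k X) r 0 (T0 k) E)
    (hs : K562.Jump.StabAt k (𝟙 (B0 k)) E ∨ StAt r E (𝟙 (Spec (CommRingCat.of k)))) :
    FlatMod.IsFinLocFreeOfRank r (CohB1.tensorMod ((Scheme.Modules.pullback (ι0 k X)).obj E) N) ∧
      St k (CohB1.tensorMod ((Scheme.Modules.pullback (ι0 k X)).obj E) N) ∧
      Curv2.euler k X (CohB1.tensorMod ((Scheme.Modules.pullback (ι0 k X)).obj E) N) = 0 ∧
      Nonempty (E ≅ cst k (T0 k) (CohB1.tensorMod
        (CohB1.tensorMod ((Scheme.Modules.pullback (ι0 k X)).obj E) N) N')) := by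
  have C : Crv k X := Crv.of_smooth hdim
  obtain ⟨h1, h2, h3⟩ := facts_ip hdim hE (𝟙 _) (Category.comp_id _)
  have h4 : St k ((Scheme.Modules.pullback (ι0 k X)).obj E) := by
    rcases hs with hs | hs
    · exact st_of_stabAt hdim hs
    · exact (stAt_iff (T0 k) (𝟙 _) (Category.comp_id _) hE.1 hdim).1 hs
  exact ⟨K757.Geo.rank_tw C h1 hN, st_tw C h1 hN h4, euler_of_dg C hg h1 hN hd h2, nonempty_cst_iso_tw E hNN⟩

end base

end K619.Adm
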