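import Groth.Agent.BunMod.K619.PullIso
import Groth.Agent.BunMod.K670.FamPt
import Groth.Agent.BunMod.K325.StabFib
import Groth.Agent.BunMod.K140.Defs2
import Groth.Agent.BunMod.K757.Fam

/-!
# Fibres of families at `k`-points: stability (helper619)

`ip T p hp : X ⟶ X_T` is the inclusion of the fibre at the `k`-point `p` (`K670.Fam.ip`).
-/

set_option autoImplicit false
universe u

open CategoryTheory CategoryTheory.Limits AlgebraicGeometry

namespace K619.KPt

open Groth.Agent Groth.Agent.VarietyA.DegRank K140.BM K707.Base K707.Deg K707.Slope K707.Semi K325.GeomFib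
  K325.StabFib K670.Fam

variable {k : Type u} [Field k] {X : Scheme.{u}} [X.Over (Spec (CommRingCat.of k))]

section model

variable (T : Over (B0 k)) (p : Spec (CommRingCat.of k) ⟶ T.left) (hp : p ≫ T.hom = 𝟙 _)

/-- The comparison of `X` with the fibre. -/
noncomputable def cmp : X ⟶ PicF.XT (st k X) (Over.mk (p ≫ T.hom)) :=
  pullback.lift (𝟙 X) (st k X) (by change 𝟙 X ≫ st k X = st k X ≫ p ≫ T.hom; rw [hp, Category.id_comp, Category.comp_id])

theorem cmp_fst : cmp (X := X) T p hp ≫ pullback.fst (st k X) (Over.mk (p ≫ T.hom)).hom = 𝟙 X := pullback.lift_fst _ _ _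

theorem cmp_snd : cmp (X := X) T p hp ≫ PicF.XTproj (st k X) (Over.mk (p ≫ T.hom)) = st k X := pullback.lift_snd _ _ _

theorem isIso_cmp : IsIso (cmp (X := X) T p hp) := by
  have h1 : IsPullback (pullback.fst (st k X) (p ≫ T.hom)) (pullback.snd (st k X) (p ≫ T.hom)) (st k X) (p ≫ T.hom) :=
    IsPullback.of_hasPullback _ _
  have hi : IsIso (p ≫ T.hom) := by rw [hp]; infer_instance
  have h2 : IsIso (pullback.fst (st k X) (p ≫ T.hom)) := h1.isIso_fst_of_isIso
  have h3 : IsIso (cmp (X := X) T p hp ≫ pullback.fst (st k X) (p ≫ T.hom)) := by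
    have := cmp_fst (X := X) T p hp
    change cmp (X := X) T p hp ≫ pullback.fst (st k X) (p ≫ T.hom) = 𝟙 X at this
    rw [this]; infer_instance
  exact IsIso.of_isIso_comp_right _ (pullback.fst (st k X) (p ≫ T.hom))

theorem cmp_XTmap : cmp (X := X) T p hp ≫ PicF.XTmap (st k X) (Over.homMk p rfl : Over.mk (p ≫ T.hom) ⟶ T) =
    ip T p hp := by
  apply pullback.hom_ext
  · have h1 : PicF.XTmap (st k X) (Over.homMk p rfl : Over.mk (p ≫ T.hom) ⟶ T) ≫ pullback.fst _ _ =
        pullback.fst _ _ := by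
      refine (pullback.lift_fst _ _ _).trans ?_
      rw [Category.comp_id]
    rw [Category.assoc, h1, ip_fst]
    exact cmp_fst T p hp
  · have h2 : PicF.XTmap (st k X) (Over.homMk p rfl : Over.mk (p ≫ T.hom) ⟶ T) ≫ PicF.XTproj (st k X) T =
        PicF.XTproj (st k X) (Over.mk (p ≫ T.hom)) ≫ p :=
      pullback.lift_snd _ _ _
    have h3 := ip_snd (X := X) T p hp
    change (cmp (X := X) T p hp ≫ PicF.XTmap (st k X) (Over.homMk p rfl : Over.mk (p ≫ T.hom) ⟶ T)) ≫
      PicF.XTproj (st k X) T = ip T p hp ≫ PicF.XTproj (st k X) T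
    rw [h3, Category.assoc, h2, ← Category.assoc, cmp_snd]

theorem nonempty_iso (E : (PicF.XT (st k X) T).Modules) :
    Nonempty ((Scheme.Modules.pullback (ip (X := X) T p hp)).obj E ≅
      (Scheme.Modules.pullback (cmp (X := X) T p hp)).obj
        (pl k X (Over.homMk p rfl : Over.mk (p ≫ T.hom) ⟶ T) E)) := by
  obtain ⟨e⟩ := K757.Fam.pull_hom_congr (cmp_XTmap (X := X) T p hp).symm E
  obtain ⟨e'⟩ := K757.Fam.pull_comp (cmp (X := X) T p hp)
    (PicF.XTmap (st k X) (Over.homMk p rfl : Over.mk (p ≫ T.hom) ⟶ T)) E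
  exact ⟨e ≪≫ e'⟩

end model

theorem st_iso [IsIntegral X] {M N : X.Modules} (e : M ≅ N) (h : St k M) : St k N := by
  intro F i hi hF h1 h2
  have h4 := h F (i ≫ e.inv) (mono_comp _ _) hF h1 (by rw [rk_iso e]; exact h2)
  rwa [rk_iso e, dg_iso k e] at h4

variable [IsProper (X ↘ Spec (CommRingCat.of k))] [Smooth (X ↘ Spec (CommRingCat.of k))]
  [GeometricallyConnected (X ↘ Spec (CommRingCat.of k))] [IsIntegral X]

section

variable (T : Over (B0 k)) (p : Spec (CommRingCat.of k) ⟶ T.left) (hp : p ≫ T.hom = 𝟙 _)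
  {E : (PicF.XT (st k X) T).Modules} {r : ℕ} (hE : FlatMod.IsFinLocFreeOfRank r E)

include hE

/-- Stability of the fibre at a `k`-point. -/
theorem stAt_iff (hdim : topologicalKrullDim X = 1) :
    StAt r E p ↔ St k ((Scheme.Modules.pullback (ip (X := X) T p hp)).obj E) := by
  let _ : (PicF.XT (st k X) (Over.mk (p ≫ T.hom))).Over (Spec (CommRingCat.of k)) :=
    ⟨PicF.XTproj (st k X) (Over.mk (p ≫ T.hom))⟩
  obtain ⟨h1, h2, h3⟩ := nc (X := X) hdim T p
  have : IsProper (PicF.XT (st k X) (Over.mk (p ≫ T.hom)) ↘ Spec (CommRingCat.of k)) := h2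
  have := isIso_cmp (X := X) T p hp
  have h4 : FlatMod.IsFinLocFreeOfRank r (pl k X (Over.homMk p rfl : Over.mk (p ≫ T.hom) ⟶ T) E) :=
    PerfB.FibreConc.isFinLocFreeOfRank_pullback _ hE
  obtain ⟨e⟩ := nonempty_iso T p hp E
  have h5 := PullIso.st_pull_iff (k := k) (cmp (X := X) T p hp) (cmp_snd T p hp) (isFinLocFree_of_rank h4)
  rw [StAt, ← st_iff h4, ← h5]
  exact ⟨st_iso e.symm, st_iso e⟩

/-- Semistability of the fibre at a `k`-point. -/
theorem ssb_of_st (hdim : topologicalKrullDim X = 1)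
    (h : St k ((Scheme.Modules.pullback (ip (X := X) T p hp)).obj E))
    (h0 : dg k ((Scheme.Modules.pullback (ip (X := X) T p hp)).obj E) = 0) :
    SSB r (p ≫ T.hom) (pl k X (Over.homMk p rfl : Over.mk (p ≫ T.hom) ⟶ T) E) := by
  let _ : (PicF.XT (st k X) (Over.mk (p ≫ T.hom))).Over (Spec (CommRingCat.of k)) :=
    ⟨PicF.XTproj (st k X) (Over.mk (p ≫ T.hom))⟩
  obtain ⟨h1, h2, h3⟩ := nc (X := X) hdim T p
  have : IsProper (PicF.XT (st k X) (Over.mk (p ≫ T.hom)) ↘ Spec (CommRingCat.of k)) := h2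
  have := isIso_cmp (X := X) T p hp
  have h4 : FlatMod.IsFinLocFreeOfRank r (pl k X (Over.homMk p rfl : Over.mk (p ≫ T.hom) ⟶ T) E) :=
    PerfB.FibreConc.isFinLocFreeOfRank_pullback _ hE
  obtain ⟨e⟩ := nonempty_iso T p hp E
  have h5 := PullIso.st_pull_iff (k := k) (cmp (X := X) T p hp) (cmp_snd T p hp) (isFinLocFree_of_rank h4)
  have h6 := PullIso.dg_pull (k := k) (cmp (X := X) T p hp) (cmp_snd T p hp) (isFinLocFree_of_rank h4)
  have h7 : St k (pl k X (Over.homMk p rfl : Over.mk (p ≫ T.hom) ⟶ T) E) := h5.1 (st_iso e h)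
  refine ⟨h4, ?_, ?_⟩
  · rw [← dg_of_rank k h4, ← h6, ← dg_iso k e, h0]
  · exact (ss_iff h3 h4).1 (h7.ss h3 (isFinLocFree_of_rank h4))

end

section restr

variable {T T' : Over (B0 k)} (g : T' ⟶ T) (p : Spec (CommRingCat.of k) ⟶ T'.left) (hp : p ≫ T'.hom = 𝟙 _)

omit [IsProper (X ↘ Spec (CommRingCat.of k))] [Smooth (X ↘ Spec (CommRingCat.of k))]
  [GeometricallyConnected (X ↘ Spec (CommRingCat.of k))] [IsIntegral X] in
/-- Fibres of a pulled back family. -/
theorem nonempty_ip_pl (hp' : (p ≫ g.left) ≫ T.hom = 𝟙 _) (E : (PicF.XT (st k X) T).Modules) :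
    Nonempty ((Scheme.Modules.pullback (ip (X := X) T' p hp)).obj (pl k X g E) ≅
      (Scheme.Modules.pullback (ip (X := X) T (p ≫ g.left) hp')).obj E) := by
  have h : ip (X := X) T (p ≫ g.left) hp' = ip T' p hp ≫ PicF.XTmap (st k X) g := by
    apply pullback.hom_ext
    · have h1 : PicF.XTmap (st k X) g ≫ pullback.fst _ _ = pullback.fst _ _ := by
        refine (pullback.lift_fst _ _ _).trans ?_
        rw [Category.comp_id]
      rw [Category.assoc, h1, ip_fst, ip_fst]
    · have h2 : PicF.XTmap (st k X) g ≫ PicF.XTproj (st k X) T = PicF.XTproj (st k X) T' ≫ g.left :=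
        pullback.lift_snd _ _ _
      change ip (X := X) T (p ≫ g.left) hp' ≫ PicF.XTproj (st k X) T =
        (ip T' p hp ≫ PicF.XTmap (st k X) g) ≫ PicF.XTproj (st k X) T
      rw [ip_snd, Category.assoc, h2, ← Category.assoc (ip T' p hp), ip_snd, Category.assoc]
  obtain ⟨e⟩ := K757.Fam.pull_hom_congr h E
  obtain ⟨e'⟩ := K757.Fam.pull_comp (ip (X := X) T' p hp) (PicF.XTmap (st k X) g) E
  exact ⟨e'.symm ≪≫ e.symm⟩

end restr

end K619.KPt
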