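import Groth.Agent.BunMod.K619.RankFm
import Groth.Agent.BunMod.K619.KPt
import Groth.Agent.BunMod.K325.StableOpen
import Groth.Agent.BunMod.K311.Fam
import Groth.Agent.VBCurve.K703.TwSS

/-!
# Stability is an open condition in Hecke families (helper619)

`exists_open_st` : for a vector bundle `E` on `X_T` (`T` locally Noetherian over the algebraically closed field `k`)
whose fibre at the `k`-point `p₀` is stable of degree zero, the fibres at the `k`-points of a neighbourhood of `p₀` are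
stable; `main` : the Hecke families.
-/

set_option autoImplicit false
universe u

open CategoryTheory CategoryTheory.Limits AlgebraicGeometry

namespace K619.HeckeOpen

open Groth.Agent Groth.Agent.VarietyA.DegRank K140.BM K707.Base K707.Deg K707.Slope K707.Semi K707.TensL K325.GeomFib
  K325.StabFib Groth.Agent.Sga67.Sec Groth.Agent.Sga67.LocBasis K670.MapTo K670.Fam K619.KPt

variable {k : Type u} [Field k] {X : Scheme.{u}} [X.Over (Spec (CommRingCat.of k))]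
  [IsProper (X ↘ Spec (CommRingCat.of k))] [Smooth (X ↘ Spec (CommRingCat.of k))]
  [GeometricallyConnected (X ↘ Spec (CommRingCat.of k))] [IsIntegral X]

omit [X.Over (Spec (CommRingCat.of k))] [IsProper (X ↘ Spec (CommRingCat.of k))]
  [Smooth (X ↘ Spec (CommRingCat.of k))] [GeometricallyConnected (X ↘ Spec (CommRingCat.of k))] [IsIntegral X] in
theorem exists_fac {S : Scheme.{u}} (U : S.Opens) {Ω : Type u} [Field Ω]
    (t : Spec (CommRingCat.of Ω) ⟶ S) (h : t (IsLocalRing.closedPoint Ω) ∈ U) :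
    ∃ t' : Spec (CommRingCat.of Ω) ⟶ (U : Scheme.{u}), t' ≫ U.ι = t := by
  refine ⟨IsOpenImmersion.lift U.ι t ?_, IsOpenImmersion.lift_fac _ _ _⟩
  rintro _ ⟨pt, rfl⟩
  obtain rfl : pt = IsLocalRing.closedPoint Ω := K846.FieldPt.eq_closedPoint _ _
  rw [Scheme.Opens.range_ι]
  exact h

variable [IsAlgClosed k]

/-- Degree zero, `T` Noetherian. -/
theorem exists_open_aux (hdim : topologicalKrullDim X = 1) (T : Over (B0 k)) [IsNoetherian T.left]
    {E : (PicF.XT (st k X) T).Modules} {r : ℕ} (hr : 1 ≤ r) (hE : FlatMod.IsFinLocFreeOfRank r E)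
    (p₀ : Spec (CommRingCat.of k) ⟶ T.left) (hp₀ : p₀ ≫ T.hom = 𝟙 _)
    (hst : St k ((Scheme.Modules.pullback (ip (X := X) T p₀ hp₀)).obj E))
    (h0 : dg k ((Scheme.Modules.pullback (ip (X := X) T p₀ hp₀)).obj E) = 0) :
    ∃ W : T.left.Opens, p₀ (IsLocalRing.closedPoint k) ∈ W ∧
      ∀ (p : Spec (CommRingCat.of k) ⟶ T.left) (hp : p ≫ T.hom = 𝟙 _), p (IsLocalRing.closedPoint k) ∈ W →
        St k ((Scheme.Modules.pullback (ip (X := X) T p hp)).obj E) := by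
  obtain ⟨U, hU, h1⟩ := K846.SSOpen.exists_open k X hdim hr T E hE k p₀ (ssb_of_st T p₀ hp₀ hE hdim hst h0)
  let T₁ : Over (B0 k) := opn T U
  let g : T₁ ⟶ T := opi T U
  have hT₁ : IsLocallyNoetherian T₁.left := inferInstanceAs (IsLocallyNoetherian (U : Scheme.{u}))
  have hE₁ : FlatMod.IsFinLocFreeOfRank r (pl k X g E) := PerfB.FibreConc.isFinLocFreeOfRank_pullback _ hE
  have hss : BunMod.ussOK (st k X) r 0 T₁ (pl k X g E) := by
    rw [K311.Fam.ussOK_iff]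
    refine ⟨hE₁, fun Ω _ _ s h => ?_⟩
    have h2 : Set.range (h ≫ g).left ⊆ U := by
      rintro _ ⟨x, rfl⟩
      change (h.left ≫ U.ι) x ∈ U
      rw [Scheme.Hom.comp_apply]
      exact (h.left x).2
    have h3 := h1 Ω (h ≫ g).left h2
    have key : ∀ (s' : Spec (CommRingCat.of Ω) ⟶ B0 k) (w : (h ≫ g).left ≫ T.hom = s'),
        SSB r s' (pl k X (Over.homMk (h ≫ g).left w : tpt s' ⟶ T) E) := by
      rintro _ rfl
      exact h3
    exact K311.Fam.ssb_congr (K311.Fam.plComp h g E).symm (key s (Over.w (h ≫ g)))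
  obtain ⟨W, hW⟩ := K325.StableOpen.exists_stableOpen (X := X) hdim T₁ hss
  have key : ∀ (p : Spec (CommRingCat.of k) ⟶ T.left) (hp : p ≫ T.hom = 𝟙 _)
      (p' : Spec (CommRingCat.of k) ⟶ T₁.left) (hp' : p' ≫ U.ι = p),
      St k ((Scheme.Modules.pullback (ip (X := X) T p hp)).obj E) ↔ p' (IsLocalRing.closedPoint k) ∈ W := by
    rintro _ hp p' rfl
    have hp1 : p' ≫ T₁.hom = 𝟙 _ := by
      change p' ≫ U.ι ≫ T.hom = 𝟙 _
      rw [← Category.assoc]
      exact hp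
    rw [hW k p', stAt_iff T₁ p' hp1 hE₁ hdim]
    obtain ⟨e⟩ := nonempty_ip_pl (X := X) g p' hp1 hp E
    exact ⟨st_iso e.symm, st_iso e⟩
  refine ⟨U.ι ''ᵁ W, ?_, fun p hp hpW => ?_⟩
  · obtain ⟨p', hp'⟩ := exists_fac U p₀ (hU ⟨_, rfl⟩)
    refine ⟨p' (IsLocalRing.closedPoint k), (key p₀ hp₀ p' hp').1 hst, ?_⟩
    rw [← hp']
    rfl
  · obtain ⟨x, hx, hxp⟩ := hpW
    obtain ⟨p', hp'⟩ := exists_fac U p (by rw [← hxp]; exact x.2)
    refine (key p hp p' hp').2 ?_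
    have h2 : p' (IsLocalRing.closedPoint k) = x := by
      apply U.ι.isOpenEmbedding.injective
      refine Eq.trans ?_ hxp.symm
      rw [← hp']
      rfl
    rw [h2]
    exact hx

/-- Degree zero. -/
theorem exists_open_zero (hdim : topologicalKrullDim X = 1) (T : Over (B0 k)) [IsLocallyNoetherian T.left]
    {E : (PicF.XT (st k X) T).Modules} {r : ℕ} (hr : 1 ≤ r) (hE : FlatMod.IsFinLocFreeOfRank r E)
    (p₀ : Spec (CommRingCat.of k) ⟶ T.left) (hp₀ : p₀ ≫ T.hom = 𝟙 _)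
    (hst : St k ((Scheme.Modules.pullback (ip (X := X) T p₀ hp₀)).obj E))
    (h0 : dg k ((Scheme.Modules.pullback (ip (X := X) T p₀ hp₀)).obj E) = 0) :
    ∃ W : T.left.Opens, p₀ (IsLocalRing.closedPoint k) ∈ W ∧
      ∀ (p : Spec (CommRingCat.of k) ⟶ T.left) (hp : p ≫ T.hom = 𝟙 _), p (IsLocalRing.closedPoint k) ∈ W →
        St k ((Scheme.Modules.pullback (ip (X := X) T p hp)).obj E) := by
  obtain ⟨U, hU, hs⟩ : ∃ U : T.left.Opens, IsAffineOpen U ∧ p₀ (IsLocalRing.closedPoint k) ∈ U := by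
    obtain ⟨_, ⟨U, hU, rfl⟩, h, -⟩ := T.left.isBasis_affineOpens.exists_subset_of_mem_open
      (Set.mem_univ (p₀ (IsLocalRing.closedPoint k))) isOpen_univ
    exact ⟨U, hU, h⟩
  let T₁ : Over (B0 k) := opn T U
  let g : T₁ ⟶ T := opi T U
  have hT₁ : IsLocallyNoetherian T₁.left := inferInstanceAs (IsLocallyNoetherian (U : Scheme.{u}))
  have hT₂ : CompactSpace T₁.left := by
    have : IsAffine T₁.left := hU
    infer_instance
  have hT₃ : IsNoetherian T₁.left := {}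
  have hE₁ : FlatMod.IsFinLocFreeOfRank r (pl k X g E) := PerfB.FibreConc.isFinLocFreeOfRank_pullback _ hE
  obtain ⟨p', hp'⟩ := exists_fac U p₀ hs
  have key : ∀ (p : Spec (CommRingCat.of k) ⟶ T.left) (hp : p ≫ T.hom = 𝟙 _)
      (p' : Spec (CommRingCat.of k) ⟶ T₁.left) (hp' : p' ≫ U.ι = p), ∃ hp1 : p' ≫ T₁.hom = 𝟙 _,
      Nonempty ((Scheme.Modules.pullback (ip (X := X) T₁ p' hp1)).obj (pl k X g E) ≅
        (Scheme.Modules.pullback (ip (X := X) T p hp)).obj E) := by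
    rintro _ hp p' rfl
    have hp1 : p' ≫ T₁.hom = 𝟙 _ := by
      change p' ≫ U.ι ≫ T.hom = 𝟙 _
      rw [← Category.assoc]
      exact hp
    exact ⟨hp1, nonempty_ip_pl (X := X) g p' hp1 hp E⟩
  obtain ⟨hp1, ⟨e⟩⟩ := key p₀ hp₀ p' hp'
  obtain ⟨W, hW, hWs⟩ := exists_open_aux hdim T₁ hr hE₁ p' hp1 (st_iso e.symm hst) (by rw [dg_iso k e, h0])
  refine ⟨U.ι ''ᵁ W, ⟨p' (IsLocalRing.closedPoint k), hW, by rw [← hp']; rfl⟩, fun p hp hpW => ?_⟩
  obtain ⟨x, hx, hxp⟩ := hpW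
  obtain ⟨q, hq⟩ := exists_fac U p (by rw [← hxp]; exact x.2)
  obtain ⟨hq1, ⟨e'⟩⟩ := key p hp q hq
  refine st_iso e' (hWs q hq1 ?_)
  have h2 : q (IsLocalRing.closedPoint k) = x := by
    apply U.ι.isOpenEmbedding.injective
    refine Eq.trans ?_ hxp.symm
    rw [← hq]
    rfl
  rw [h2]
  exact hx

/-- **Stability is open along families of bundles**, at `k`-points. -/
theorem exists_open_st (hdim : topologicalKrullDim X = 1) (T : Over (B0 k)) [IsLocallyNoetherian T.left]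
    {E : (PicF.XT (st k X) T).Modules} {r : ℕ} (hr : 1 ≤ r) (hE : FlatMod.IsFinLocFreeOfRank r E)
    (p₀ : Spec (CommRingCat.of k) ⟶ T.left) (hp₀ : p₀ ≫ T.hom = 𝟙 _)
    (hst : St k ((Scheme.Modules.pullback (ip (X := X) T p₀ hp₀)).obj E)) {d : ℤ}
    (h0 : dg k ((Scheme.Modules.pullback (ip (X := X) T p₀ hp₀)).obj E) = r * d) :
    ∃ W : T.left.Opens, p₀ (IsLocalRing.closedPoint k) ∈ W ∧
      ∀ (p : Spec (CommRingCat.of k) ⟶ T.left) (hp : p ≫ T.hom = 𝟙 _), p (IsLocalRing.closedPoint k) ∈ W →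
        St k ((Scheme.Modules.pullback (ip (X := X) T p hp)).obj E) := by
  have C : Crv k X := Crv.of_smooth hdim
  obtain ⟨N, hN, hNd⟩ := K703.TwSS.exists_inv_dg C (-d)
  obtain ⟨P, hP, ⟨ι⟩⟩ : ∃ P : X.Modules, PicF.IsInvertible P ∧
      Nonempty (CohB1.tensorMod N P ≅ Coh.structureModule X) := by
    obtain ⟨P, hP, ⟨e⟩, -⟩ := K708.PtTwist.exists_inv C hN
    exact ⟨P, hP, ⟨e⟩⟩
  have hNT : PicF.IsInvertible (cst k T N) := Fdesc.LocGen.isInvertible_pullback _ hN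
  have hEN : FlatMod.IsFinLocFreeOfRank r (CohB1.tensorMod E (cst k T N)) := by
    have h1 := Krr.H495.Rank.rank_tensor hE (rank_one_iff.2 hNT)
    simpa using h1
  have hcoh : ∀ (p : Spec (CommRingCat.of k) ⟶ T.left) (hp : p ≫ T.hom = 𝟙 _),
      FlatMod.IsFinLocFreeOfRank r ((Scheme.Modules.pullback (ip (X := X) T p hp)).obj E) := fun p hp =>
    PerfB.FibreConc.isFinLocFreeOfRank_pullback _ hE
  have key : ∀ (p : Spec (CommRingCat.of k) ⟶ T.left) (hp : p ≫ T.hom = 𝟙 _),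
      Nonempty ((Scheme.Modules.pullback (ip (X := X) T p hp)).obj (CohB1.tensorMod E (cst k T N)) ≅
        (K707.TensL.T N).obj ((Scheme.Modules.pullback (ip (X := X) T p hp)).obj E)) := by
    intro p hp
    obtain ⟨e⟩ := K757.Fam.pull_tens (ip (X := X) T p hp) E (cst k T N)
    obtain ⟨e1⟩ := K757.Fam.pull_comp (ip (X := X) T p hp) (pullback.fst (st k X) T.hom) N
    obtain ⟨e2⟩ := K757.Fam.pull_hom_congr (ip_fst (X := X) T p hp) N
    obtain ⟨e3⟩ := K757.Fam.pull_id N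
    obtain ⟨e4⟩ := K757.Fam.tens_congr (A := (Scheme.Modules.pullback (ip (X := X) T p hp)).obj E) ⟨Iso.refl _⟩
      ⟨e1.symm ≪≫ e2 ≪≫ e3⟩
    exact ⟨e ≪≫ e4⟩
  obtain ⟨e₀⟩ := key p₀ hp₀
  obtain ⟨W, hW, hWs⟩ := exists_open_zero hdim T hr hEN p₀ hp₀
    (st_iso e₀.symm (K703.TwSS.st_twist C hN (isCoh_of_rank (hcoh p₀ hp₀)) hst)) (by
      rw [dg_iso k e₀, K703.TwSS.dg_twist C hN (isCoh_of_rank (hcoh p₀ hp₀)), rk_of_rank (hcoh p₀ hp₀), h0, hNd]
      ring)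
  refine ⟨W, hW, fun p hp hpW => ?_⟩
  obtain ⟨e⟩ := key p hp
  have h1 := st_iso e (hWs p hp hpW)
  have h2 := K703.TwSS.st_twist C hP (isCoh_of_rank (K703.TwSS.rank_twist C hN (hcoh p hp))) h1
  exact st_iso (K703.TwSS.twIso ι _) h2

/-- **Stability is open in the Hecke families.** -/
theorem main (hdim : topologicalKrullDim X = 1) (T : Over (B0 k)) [IsLocallyNoetherian T.left]
    (y : T.left ⟶ X) (hy : y ≫ st k X = T.hom)
    {V : X.Modules} {U : X.Opens} {r : ℕ} (hV : FlatMod.IsFinLocFreeOfRank r V) {b : Fin r → Sec V U}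
    (hb : IsLocBasis b) (hU : ⊤ ≤ y ⁻¹ᵁ U) (a c : Fin r → Γ(T.left, ⊤)) (hc : ∑ i, c i * a i = 1)
    (p₀ : Spec (CommRingCat.of k) ⟶ T.left) (hp₀ : p₀ ≫ T.hom = 𝟙 _) (hU₀ : ⊤ ≤ (p₀ ≫ y) ⁻¹ᵁ U)
    (h0 : Curv2.euler k X (kernel (mp (p₀ ≫ y) hU₀ hb fun i => p₀.appTop (a i))) = 0)
    (hst : St k (kernel (mp (p₀ ≫ y) hU₀ hb fun i => p₀.appTop (a i)))) :
    ∃ W : T.left.Opens, p₀ (IsLocalRing.closedPoint k) ∈ W ∧
      ∀ (p : Spec (CommRingCat.of k) ⟶ T.left) (_ : p ≫ T.hom = 𝟙 _) (hUp : ⊤ ≤ (p ≫ y) ⁻¹ᵁ U),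
        p (IsLocalRing.closedPoint k) ∈ W → St k (kernel (mp (p ≫ y) hUp hb fun i => p.appTop (a i))) := by
  rcases Nat.eq_zero_or_pos r with rfl | hr
  · rw [Fin.sum_univ_zero] at hc
    have h1 := congrArg p₀.appTop hc
    rw [map_zero, map_one] at h1
    have h2 : Subsingleton Γ(Spec (CommRingCat.of k), ⊤) := subsingleton_of_zero_eq_one h1
    have h3 : Subsingleton k := (Scheme.ΓSpecIso (CommRingCat.of k)).symm.commRingCatIsoToRingEquiv.toEquiv.subsingleton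
    exact absurd h3 (not_subsingleton k)
  have hE := RankFm.rank_Fm T y hy hb hU hdim hV a c hc
  have hcoh : FlatMod.IsFinLocFreeOfRank r ((Scheme.Modules.pullback (ip (X := X) T p₀ hp₀)).obj
      (Fm T y hy hb hU a)) := PerfB.FibreConc.isFinLocFreeOfRank_pullback _ hE
  obtain ⟨e₀⟩ := nonempty_fibre_iso T p₀ hp₀ y hy hb hU a c hc hU₀
  obtain ⟨W, hW, hWs⟩ := exists_open_st hdim T hr hE p₀ hp₀ (st_iso e₀.symm hst)
    (d := - Curv2.euler k X (Coh.structureModule X)) (by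
      rw [dg_iso k e₀, dg, h0, ← rk_iso e₀, rk_of_rank hcoh]
      ring)
  refine ⟨W, hW, fun p hp hUp hpW => ?_⟩
  obtain ⟨e⟩ := nonempty_fibre_iso T p hp y hy hb hU a c hc hUp
  exact st_iso e (hWs p hp hpW)

end K619.HeckeOpen
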