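import Groth.Agent.BunMod.K619.HeckeDefs
import Groth.Agent.BunMod.K619.HeckeOpen
import Mathlib.AlgebraicGeometry.AlgClosed.Basic

/-!
# Maps to the skyscraper at a closed point as vectors (helper619)

`k` algebraically closed, `p` a closed point of `X`, `jp p : Spec k ⟶ X` the corresponding section, `G` a module with a
basis `b` over `U ∋ p`.
-/

set_option autoImplicit false
set_option linter.unusedSectionVars false
universe u
open CategoryTheory CategoryTheory.Limits AlgebraicGeometry TopologicalSpace Opposite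

namespace K619.Dict

open Groth.Agent Groth.Agent.CurvesC Groth.Agent.Dix.PointIdeal K704.Pt K61.Skys
open Groth.Agent.Sga67.Sec Groth.Agent.Sga67.LocBasis K670.MapTo

variable {k : Type u} [Field k]

/-- Elements of `k` as functions on `Spec k`. -/
noncomputable def c0 (k : Type u) [Field k] : k →+* Γ(Spec (CommRingCat.of k), ⊤) :=
  (Scheme.ΓSpecIso (CommRingCat.of k)).inv.hom

/-- Functions on `Spec k` as elements of `k`. -/
noncomputable def v0 (k : Type u) [Field k] : Γ(Spec (CommRingCat.of k), ⊤) →+* k :=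
  (Scheme.ΓSpecIso (CommRingCat.of k)).hom.hom

theorem v0_c0 (x : k) : v0 k (c0 k x) = x := by
  change ((Scheme.ΓSpecIso (CommRingCat.of k)).inv ≫ (Scheme.ΓSpecIso (CommRingCat.of k)).hom).hom x = x
  rw [Iso.inv_hom_id]
  rfl

theorem c0_v0 (x : Γ(Spec (CommRingCat.of k), ⊤)) : c0 k (v0 k x) = x := by
  change ((Scheme.ΓSpecIso (CommRingCat.of k)).hom ≫ (Scheme.ΓSpecIso (CommRingCat.of k)).inv).hom x = x
  rw [Iso.hom_inv_id]
  rfl

variable {X : Scheme.{u}} [X.Over (Spec (CommRingCat.of k))]

section vec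

variable (j : Spec (CommRingCat.of k) ⟶ X) {G : X.Modules} {U : X.Opens} {r : ℕ} (b : Fin r → Sec G U)
  (hU : ⊤ ≤ j ⁻¹ᵁ U)

/-- The vector of a map to the direct image of the structure sheaf of a `k`-point. -/
noncomputable def vec (φ : G ⟶ (Scheme.Modules.pushforward j).obj (Coh.structureModule (Spec (CommRingCat.of k))))
    (i : Fin r) : k := v0 k (toO (val j hU b φ i))

theorem vec_add (φ ψ : G ⟶ (Scheme.Modules.pushforward j).obj (Coh.structureModule (Spec (CommRingCat.of k))))
    (i : Fin r) : vec j b hU (φ + ψ) i = vec j b hU φ i + vec j b hU ψ i := by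
  rw [vec, val, appS_add, map_add, map_add]
  exact map_add (v0 k) _ _

theorem vec_smul (hj : j ≫ (X ↘ Spec (CommRingCat.of k)) = 𝟙 _) (t : k)
    (φ : G ⟶ (Scheme.Modules.pushforward j).obj (Coh.structureModule (Spec (CommRingCat.of k))))
    (i : Fin r) : vec j b hU (t • φ) i = t * vec j b hU φ i := by
  have h1 : appS (t • φ) U (b i) =
      (resO X (le_top : U ≤ ⊤) (Coh.toGlobal (X ↘ Spec (CommRingCat.of k)) t)) • appS φ U (b i) :=
    KLin.smul_app_apply t φ U (b i)
  have h2 : resO (Spec (CommRingCat.of k)) hU (j.app U (resO X (le_top : U ≤ ⊤)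
      (Coh.toGlobal (X ↘ Spec (CommRingCat.of k)) t))) = c0 k t := by
    have h3 : resO (Spec (CommRingCat.of k)) hU (j.app U (resO X (le_top : U ≤ ⊤)
        (Coh.toGlobal (X ↘ Spec (CommRingCat.of k)) t))) =
        j.appTop (Coh.toGlobal (X ↘ Spec (CommRingCat.of k)) t) := by
      have h4 := j.naturality (homOfLE (le_top : U ≤ ⊤)).op
      have h5 := congr($h4 (Coh.toGlobal (X ↘ Spec (CommRingCat.of k)) t))
      change j.app U (resO X (le_top : U ≤ ⊤) (Coh.toGlobal (X ↘ Spec (CommRingCat.of k)) t)) =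
        resO (Spec (CommRingCat.of k)) (Scheme.Hom.preimage_mono j le_top)
          (j.appTop (Coh.toGlobal (X ↘ Spec (CommRingCat.of k)) t)) at h5
      rw [h5, resO_resO]
      exact resO_self _ _
    rw [h3, ← KLin.toGlobal_comp, hj]
    rfl
  rw [vec, val, h1, ofPush_smul, res_smul, h2, toO_smul, map_mul, v0_c0]
  rfl

variable {b} (hb : IsLocBasis b)

include hb

theorem eq_mp_vec (φ : G ⟶ (Scheme.Modules.pushforward j).obj (Coh.structureModule (Spec (CommRingCat.of k)))) :
    φ = mp j hU hb (fun i => c0 k (vec j b hU φ i)) :=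
  eq_mp j hU hb fun _ => (c0_v0 _).symm

theorem vec_mp (α : Fin r → k) (i : Fin r) : vec j b hU (mp j hU hb fun i => c0 k (α i)) i = α i := by
  rw [vec, toO_val_mp, v0_c0]

theorem ne_zero_iff (φ : G ⟶ (Scheme.Modules.pushforward j).obj (Coh.structureModule (Spec (CommRingCat.of k)))) :
    φ ≠ 0 ↔ ∃ i, vec j b hU φ i ≠ 0 := by
  constructor
  · intro h
    by_contra hcon
    push Not at hcon
    apply h
    refine K670.MapTo.hom_ext j hU hb fun i => ?_
    have h1 := hcon i
    have h2 : toO (val j hU b φ i) = 0 := by rw [← c0_v0 (toO (val j hU b φ i))]; change c0 k (vec j b hU φ i) = 0; rw [h1, map_zero]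
    rw [val, val, appS_zero, map_zero, map_zero]
    exact h2
  · rintro ⟨i, hi⟩ rfl
    apply hi
    rw [vec, val, appS_zero, map_zero, map_zero]
    exact map_zero (v0 k)

end vec

section pt

variable [IsAlgClosed k] [LocallyOfFiniteType (X ↘ Spec (CommRingCat.of k))]

/-- The section through a closed point. -/
noncomputable def jp (p : X) (hp : IsClosed ({p} : Set X)) : Spec (CommRingCat.of k) ⟶ X :=
  pointOfClosedPoint (X ↘ Spec (CommRingCat.of k)) p hp

theorem jp_st (p : X) (hp : IsClosed ({p} : Set X)) : jp (k := k) p hp ≫ (X ↘ Spec (CommRingCat.of k)) = 𝟙 _ :=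
  pointOfClosedPoint_comp _ _ _

theorem jp_apply (p : X) (hp : IsClosed ({p} : Set X)) (x : Spec (CommRingCat.of k)) : jp p hp x = p :=
  pointOfClosedPoint_apply _ _ _ _

theorem exists_theta (p : X) (hp : IsClosed ({p} : Set X)) :
    Nonempty ((Scheme.Modules.pushforward (jp (k := k) p hp)).obj (Coh.structureModule (Spec (CommRingCat.of k))) ≅
      ClSub.quotMod (pt p hp)) := by
  have hci := isClosedImmersion p hp
  rw [pt_eq_ker]
  obtain ⟨e0⟩ := pushIso (Spec.map (residueFieldIsoBase (X ↘ Spec (CommRingCat.of k)) p hp).hom)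
    (X.fromSpecResidueField p)
  obtain ⟨e1⟩ := pushforwardCongrIso (X.fromSpecResidueField p).toImage_imageι.symm
    (Coh.structureModule (Spec (X.residueField p)))
  obtain ⟨e2⟩ := pushIso (X.fromSpecResidueField p).toImage (X.fromSpecResidueField p).imageι
  exact ⟨e0 ≪≫ e1 ≪≫ e2⟩

/-- A choice of the isomorphism with `κ(p)`. -/
noncomputable def theta (p : X) (hp : IsClosed ({p} : Set X)) :
    (Scheme.Modules.pushforward (jp (k := k) p hp)).obj (Coh.structureModule (Spec (CommRingCat.of k))) ≅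
      ClSub.quotMod (pt p hp) := (exists_theta p hp).some

theorem le_jp {U : X.Opens} (p : X) (hp : IsClosed ({p} : Set X)) (h : p ∈ U) : ⊤ ≤ jp (k := k) p hp ⁻¹ᵁ U := by
  intro x _
  change jp p hp x ∈ U
  rw [jp_apply]
  exact h

end pt

end K619.Dict
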