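import Groth.Agent.VBCurve.K61.CommonF
import Groth.Agent.BunMod.K670.Num
import Groth.Agent.VBCurve.K703.TwSS

/-!
# Chains of Hecke modifications (helper619): definitions and formal part

* `GoodB k r E`: `E` is a stable bundle of rank `r` with `χ(E) = 0`, `H⁰(E) = 0`;
* `Hk k r E E'`: two good bundles contained in a common stable bundle of rank `r` with `χ = 1`;
* `Good.and`: the openness conditions `K61.Hecke.Good` are stable under conjunction;
* `exists_up`: every bundle is an elementary modification;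
* `chain_of`: if stability with `χ = 0` is `K61.Hecke.Good` then any two good bundles are joined by a chain.
-/

set_option autoImplicit false
set_option linter.unusedSectionVars false
universe u
open CategoryTheory CategoryTheory.Limits AlgebraicGeometry TopologicalSpace Opposite

namespace K619.Hecke

open Groth.Agent Groth.Agent.CurvesC Groth.Agent.Dix.PointIdeal K704.Pt
open Groth.Agent.VarietyA.DegRank
open MonoidalCategory K707.Base K707.Deg K707.Slope K707.Semi K707.TensL K61.Skys K61.Hecke K61.HomOpen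
open scoped Groth.Agent.Dcoh.MonCat

section defs

variable (k : Type u) [Field k] {X : Scheme.{u}} [X.Over (Spec (CommRingCat.of k))] [IsIntegral X]

/-- Stable bundles of rank `r` with `χ = 0`, without sections. -/
structure GoodB (r : ℕ) (E : X.Modules) : Prop where
  vb : FlatMod.IsFinLocFree E
  rk : rk E = r
  chi : Curv2.euler k X E = 0
  st : St k E
  h0 : Subsingleton (Coh.HH X E 0)

/-- Two good bundles contained in a common stable bundle of rank `r` with `χ = 1`. -/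
def Hk (r : ℕ) (E E' : X.Modules) : Prop :=
  GoodB k r E ∧ GoodB k r E' ∧ ∃ (V : X.Modules) (i : E ⟶ V) (i' : E' ⟶ V), FlatMod.IsFinLocFree V ∧
    VarietyA.DegRank.rk V = r ∧ Curv2.euler k X V = 1 ∧ St k V ∧ Mono i ∧ Mono i'

/-- Stable with `χ = 0`. -/
def GS (r : ℕ) (E : X.Modules) : Prop := FlatMod.IsFinLocFreeOfRank r E ∧ Curv2.euler k X E = 0 ∧ St k E

theorem Hk.symm {r : ℕ} {E E' : X.Modules} (h : Hk k r E E') : Hk k r E' E := by
  obtain ⟨h1, h2, V, i, i', h3, h4, h5, h6, h7, h8⟩ := h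
  exact ⟨h2, h1, V, i', i, h3, h4, h5, h6, h8, h7⟩

theorem euler_iso {M N : X.Modules} (e : M ≅ N) : Curv2.euler k X M = Curv2.euler k X N := by
  rw [euler_eq_dg k M, euler_eq_dg k N, dg_iso k e, rk_iso e]

theorem st_iso {M N : X.Modules} (e : M ≅ N) (h : St k M) : St k N := by
  intro F i hi hF h1 h2
  have h4 := h F (i ≫ e.inv) (mono_comp _ _) hF h1 (by rw [rk_iso e]; exact h2)
  rwa [rk_iso e, dg_iso k e] at h4

theorem goodB_iff {r : ℕ} {E : X.Modules} : GoodB k r E ↔ GS k r E ∧ PU (Coh.structureModule X) E := by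
  have h1 : PU (Coh.structureModule X) E ↔ Subsingleton (Coh.HH X E 0) := K708.HomH0.forall_unit_hom_eq_zero_iff E
  rw [h1]
  constructor
  · rintro ⟨h2, rfl, h4, h5, h6⟩
    exact ⟨⟨isFinLocFreeOfRank_rk h2, h4, h5⟩, h6⟩
  · rintro ⟨⟨h2, h4, h5⟩, h6⟩
    exact ⟨isFinLocFree_of_rank h2, rk_of_rank h2, h4, h5, h6⟩

end defs

variable (k : Type u) [Field k] {X : Scheme.{u}} [X.Over (Spec (CommRingCat.of k))]
  [IsIntegral X] [IsProper (X ↘ Spec (CommRingCat.of k))] [Smooth (X ↘ Spec (CommRingCat.of k))] [IsAlgClosed k]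
    (hdim : topologicalKrullDim X = 1)

/-- The openness conditions are stable under conjunction. -/
theorem Good.and {n : ℕ} {P R : X.Modules → Prop} (hP : Good k n P) (hR : Good k n R) :
    Good k n (fun F => P F ∧ R F) := by
  refine ⟨fun e h => ⟨hP.iso e h.1, hR.iso e h.2⟩, ?_, ?_⟩
  · rintro G hG p hp φ hφ ⟨h1, h2⟩
    obtain ⟨Z1, hZ1, h3⟩ := hP.o1 G hG p hp φ hφ h1
    obtain ⟨Z2, hZ2, h4⟩ := hR.o1 G hG p hp φ hφ h2
    refine ⟨Z1 ∪ Z2, hZ1.union hZ2, fun q hq hqZ => ?_⟩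
    simp only [Set.mem_union, not_or] at hqZ
    obtain ⟨ψ₁, hψ₁, hm₁⟩ := h3 q hq hqZ.1
    obtain ⟨ψ₂, hψ₂, hm₂⟩ := h4 q hq hqZ.2
    obtain ⟨W1, hW1, h5⟩ := hP.o2 G hG q hq ψ₁ (ψ₂ - ψ₁) hψ₁ hm₁
    obtain ⟨W2, hW2, h6⟩ := hR.o2 G hG q hq ψ₂ (ψ₁ - ψ₂) hψ₂ hm₂
    have hinf : Infinite k := IsAlgClosed.instInfinite
    have hfin : (W1 ∪ (fun t : k => 1 - t) ⁻¹' W2).Finite :=
      hW1.union (hW2.preimage (fun a _ b _ h => by simpa using h))
    obtain ⟨t, ht⟩ := hfin.exists_notMem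
    simp only [Set.mem_union, Set.mem_preimage, not_or] at ht
    obtain ⟨h7, h8⟩ := h5 t ht.1
    obtain ⟨-, h9⟩ := h6 (1 - t) ht.2
    refine ⟨ψ₁ + t • (ψ₂ - ψ₁), h7, h8, ?_⟩
    have h10 : ψ₂ + (1 - t) • (ψ₁ - ψ₂) = ψ₁ + t • (ψ₂ - ψ₁) := by
      rw [sub_smul, one_smul, smul_sub, smul_sub]
      abel
    rwa [h10] at h9
  · rintro G hG p hp φ ψ hφ ⟨h1, h2⟩
    obtain ⟨Z1, hZ1, h3⟩ := hP.o2 G hG p hp φ ψ hφ h1
    obtain ⟨Z2, hZ2, h4⟩ := hR.o2 G hG p hp φ ψ hφ h2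
    refine ⟨Z1 ∪ Z2, hZ1.union hZ2, fun t ht => ?_⟩
    simp only [Set.mem_union, not_or] at ht
    exact ⟨(h3 t ht.1).1, (h3 t ht.1).2, (h4 t ht.2).2⟩

include hdim

/-- Every bundle is an elementary modification of another one. -/
theorem exists_up {n : ℕ} (hn : 0 < n) {E : X.Modules} (hE : FlatMod.IsFinLocFreeOfRank n E) :
    ∃ (G : X.Modules) (i : E ⟶ G), FlatMod.IsFinLocFreeOfRank n G ∧ dg k G = dg k E + 1 ∧ Mono i := by
  have C : Crv k X := Crv.of_smooth hdim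
  obtain ⟨N, hN, hNd⟩ := K703.TwSS.exists_inv_dg C 1
  have hEN := K703.TwSS.rank_twist C hN hE
  obtain ⟨B, i₁, i₂, hB, hi₁, hi₂⟩ := exists_over k hdim hE hEN
  have hcE := isCoh_of_rank hE
  have hcEN := isCoh_of_rank hEN
  have hcB := isCoh_of_rank hB
  have h1 := dg_le_of_mono C i₂ hcEN hcB (by rw [rk_of_rank hB, rk_of_rank hEN])
  rw [K703.TwSS.dg_twist C hN hcE, rk_of_rank hE, hNd] at h1
  obtain ⟨l, hl⟩ : ∃ l : ℕ, dg k B = dg k E + (l + 1 : ℕ) := ⟨(dg k B - dg k E - 1).toNat, by omega⟩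
  have h2 := chain k hdim (P := fun F => Nonempty (E ≅ F)) (fun e ⟨e'⟩ => ⟨e' ≪≫ e⟩) hE ⟨Iso.refl _⟩ (l + 1) hB i₁ hi₁ hl
  rw [Function.iterate_succ_apply] at h2
  obtain ⟨G, hG, hGd, p, hp, φ, hφ, ⟨e⟩⟩ := extract k hdim l hB h2
  refine ⟨G, e.hom ≫ kernel.ι φ, hG, ?_, mono_comp _ _⟩
  rw [hGd, hl]
  push_cast
  ring

/-- Isomorphic good bundles are related. -/
theorem hk_of_iso {r : ℕ} (hr : 0 < r) {E E' : X.Modules} (h : GoodB k r E) (h' : GoodB k r E') (e : E ≅ E') :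
    Hk k r E E' := by
  have C : Crv k X := Crv.of_smooth hdim
  have hE : FlatMod.IsFinLocFreeOfRank r E := by
    have := isFinLocFreeOfRank_rk h.vb
    rwa [h.rk] at this
  obtain ⟨G, i, hG, hGd, hi⟩ := exists_up k hdim hr hE
  have hGe : Curv2.euler k X G = 1 := by
    have h1 := h.chi
    rw [euler_eq_dg, h.rk] at h1
    rw [euler_eq_dg, rk_of_rank hG, hGd]
    omega
  exact ⟨h, h', G, i, e.inv ≫ i, isFinLocFree_of_rank hG, rk_of_rank hG, hGe,
    K670.Num.st_of_over C i (coh_of_vb h.vb) (isCoh_of_rank hG) (by rw [h.rk, rk_of_rank hG]) h.st h.chi hGe,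
    hi, mono_comp _ _⟩

/-- Kernels of non-zero maps to points from the same bundle are related. -/
theorem hk_kernels {r : ℕ} {G : X.Modules} (hG : FlatMod.IsFinLocFreeOfRank r G) (p : X)
    (hp : IsClosed ({p} : Set X)) (φ : G ⟶ ClSub.quotMod (pt p hp)) (hφ : φ ≠ 0) (q : X)
    (hq : IsClosed ({q} : Set X)) (ψ : G ⟶ ClSub.quotMod (pt q hq)) (h : GoodB k r (kernel φ))
    (h' : GoodB k r (kernel ψ)) : Hk k r (kernel φ) (kernel ψ) := by
  have C : Crv k X := Crv.of_smooth hdim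
  have h1 := dg_kernel k hdim (isCoh_of_rank hG) p hp φ hφ
  have hGe : Curv2.euler k X G = 1 := by
    have h2 := h.chi
    rw [euler_eq_dg, h.rk, h1] at h2
    rw [euler_eq_dg, rk_of_rank hG]
    omega
  exact ⟨h, h', G, kernel.ι φ, kernel.ι ψ, isFinLocFree_of_rank hG, rk_of_rank hG, hGe,
    K670.Num.st_of_over C (kernel.ι φ) (coh_of_vb h.vb) (isCoh_of_rank hG) (by rw [h.rk, rk_of_rank hG]) h.st h.chi
      hGe, inferInstance, inferInstance⟩

theorem good_goodB {r : ℕ} (h : Good k r (GS (X := X) k r)) : Good k r (GoodB (X := X) k r) := by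
  have h1 := Good.and k h (good_hom k hdim (n := r) (r := 1) (U := Coh.structureModule X)
    (rank_one_iff.2 Fdesc.LocGen.isInvertible_structureModule))
  have h2 : (fun F : X.Modules => GS k r F ∧ PU (Coh.structureModule X) F) = GoodB k r := by
    funext F
    exact propext (goodB_iff k).symm
  rwa [h2] at h1

/-- Good bundles joined with `E`. -/
theorem good_chain {r : ℕ} (hr : 0 < r) (h : Good k r (GoodB (X := X) k r)) (E : X.Modules) :
    Good k r (fun F => GoodB k r F ∧ Relation.EqvGen (Hk k r) E F) := by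
  refine ⟨?_, ?_, ?_⟩
  · rintro A B e ⟨h1, h2⟩
    have h3 := h.iso e h1
    exact ⟨h3, h2.trans _ _ _ (.rel _ _ (hk_of_iso k hdim hr h1 h3 e))⟩
  · rintro G hG p hp φ hφ ⟨h1, h2⟩
    obtain ⟨Z, hZ, h3⟩ := h.o1 G hG p hp φ hφ h1
    refine ⟨Z, hZ, fun q hq hqZ => ?_⟩
    obtain ⟨ψ, hψ, h4⟩ := h3 q hq hqZ
    exact ⟨ψ, hψ, h4, h2.trans _ _ _ (.rel _ _ (hk_kernels k hdim hG p hp φ hφ q hq ψ h1 h4))⟩
  · rintro G hG p hp φ ψ hφ ⟨h1, h2⟩
    obtain ⟨Z, hZ, h3⟩ := h.o2 G hG p hp φ ψ hφ h1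
    refine ⟨Z, hZ, fun t ht => ?_⟩
    obtain ⟨hψ, h4⟩ := h3 t ht
    exact ⟨hψ, h4, h2.trans _ _ _ (.rel _ _ (hk_kernels k hdim hG p hp φ hφ p hp _ h1 h4))⟩

/-- **Chains of Hecke modifications**, from the openness of stability. -/
theorem chain_of {r : ℕ} (hr : 0 < r) (h : Good k r (GS (X := X) k r)) {E E' : X.Modules} (hE : GoodB k r E)
    (hE' : GoodB k r E') : Relation.EqvGen (Hk k r) E E' := by
  have h0 := good_goodB k hdim h
  have h1 := ((goodB_iff k).1 hE).1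
  have h2 := ((goodB_iff k).1 hE').1
  obtain ⟨F, hF, -, ⟨-, h3⟩, ⟨-, h4⟩⟩ := exists_common k hdim (good_chain k hdim hr h0 E) (good_chain k hdim hr h0 E')
    h1.1 h2.1 (by
      have e1 := h1.2.1
      have e2 := h2.2.1
      rw [euler_eq_dg, rk_of_rank h1.1] at e1
      rw [euler_eq_dg, rk_of_rank h2.1] at e2
      omega) ⟨hE, .refl _⟩ ⟨hE', .refl _⟩
  exact h3.trans _ _ _ (h4.symm _ _)

end K619.Hecke
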