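import Groth.Agent.BunMod.K619.Dict
import Groth.Agent.VarietyA.Dim1Top
import Groth.Agent.Fdesc.GeomAlgClosed

/-!
# Stability is open for Hecke modifications at moving points (helper619)
-/

set_option autoImplicit false
set_option linter.unusedSectionVars false
universe u
open CategoryTheory CategoryTheory.Limits AlgebraicGeometry TopologicalSpace Opposite

namespace K619.HeckeO

open Groth.Agent Groth.Agent.CurvesC Groth.Agent.Dix.PointIdeal K704.Pt K61.Skys K140.BM K619.Dict K619.Hecke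
open Groth.Agent.VarietyA.DegRank K707.Base K707.Deg K707.Slope K707.Semi
open Groth.Agent.Sga67.Sec Groth.Agent.Sga67.LocBasis K670.MapTo

variable {k : Type u} [Field k] {X : Scheme.{u}} [X.Over (Spec (CommRingCat.of k))]

theorem ker_congr {G : X.Modules} {U : X.Opens} {r : ℕ} {b : Fin r → Sec G U} (hb : IsLocBasis b)
    {j j' : Spec (CommRingCat.of k) ⟶ X} (h : j = j') (hU : ⊤ ≤ j ⁻¹ᵁ U) (hU' : ⊤ ≤ j' ⁻¹ᵁ U)
    {a a' : Fin r → Γ(Spec (CommRingCat.of k), ⊤)} (ha : ∀ i, a i = a' i) :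
    Nonempty (kernel (mp j hU hb a) ≅ kernel (mp j' hU' hb a')) := by
  subst h
  obtain rfl : a = a' := funext ha
  exact ⟨Iso.refl _⟩

variable [IsIntegral X] [IsProper (X ↘ Spec (CommRingCat.of k))] [Smooth (X ↘ Spec (CommRingCat.of k))]
  [IsAlgClosed k] (hdim : topologicalKrullDim X = 1)

/-- The map with a given vector. -/
noncomputable def mv {G : X.Modules} {U : X.Opens} {r : ℕ} {b : Fin r → Sec G U} (hb : IsLocBasis b)
    (q : X) (hq : IsClosed ({q} : Set X)) (h : q ∈ U) (α : Fin r → k) : G ⟶ ClSub.quotMod (pt q hq) :=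
  mp (jp (k := k) q hq) (le_jp q hq h) hb (fun i => c0 k (α i)) ≫ (theta q hq).hom

theorem mv_ne_zero {G : X.Modules} {U : X.Opens} {r : ℕ} {b : Fin r → Sec G U} (hb : IsLocBasis b)
    (q : X) (hq : IsClosed ({q} : Set X)) (h : q ∈ U) {α : Fin r → k} {i₀ : Fin r} (hi : α i₀ ≠ 0) :
    mv hb q hq h α ≠ 0 := by
  intro h0
  have h1 : mp (jp (k := k) q hq) (le_jp q hq h) hb (fun i => c0 k (α i)) = 0 :=
    (cancel_mono (theta q hq).hom).1 (h0.trans zero_comp.symm)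
  refine (ne_zero_iff (jp (k := k) q hq) (le_jp q hq h) hb _).2 ⟨i₀, ?_⟩ h1
  rw [vec_mp]
  exact hi

theorem nonempty_ker_mv {G : X.Modules} {U : X.Opens} {r : ℕ} {b : Fin r → Sec G U} (hb : IsLocBasis b)
    (q : X) (hq : IsClosed ({q} : Set X)) (h : q ∈ U) (α : Fin r → k) :
    Nonempty (kernel (mp (jp (k := k) q hq) (le_jp q hq h) hb fun i => c0 k (α i)) ≅ kernel (mv hb q hq h α)) :=
  ⟨(kernelCompMono _ _).symm⟩

theorem eq_mv {G : X.Modules} {U : X.Opens} {r : ℕ} {b : Fin r → Sec G U} (hb : IsLocBasis b)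
    (q : X) (hq : IsClosed ({q} : Set X)) (h : q ∈ U) (φ : G ⟶ ClSub.quotMod (pt q hq)) :
    φ = mv hb q hq h (fun i => vec (jp (k := k) q hq) b (le_jp q hq h) (φ ≫ (theta q hq).inv) i) := by
  rw [mv, ← eq_mp_vec (jp (k := k) q hq) (le_jp q hq h) hb, Category.assoc, Iso.inv_hom_id, Category.comp_id]

theorem exists_mv {G : X.Modules} {U : X.Opens} {r : ℕ} {b : Fin r → Sec G U} (hb : IsLocBasis b)
    (q : X) (hq : IsClosed ({q} : Set X)) (h : q ∈ U) (φ : G ⟶ ClSub.quotMod (pt q hq)) :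
    ∃ α : Fin r → k, φ = mv hb q hq h α := ⟨_, eq_mv hb q hq h φ⟩

theorem exists_ne {G : X.Modules} {U : X.Opens} {r : ℕ} {b : Fin r → Sec G U} (hb : IsLocBasis b)
    (q : X) (hq : IsClosed ({q} : Set X)) (h : q ∈ U) {α : Fin r → k} (h0 : mv hb q hq h α ≠ 0) : ∃ i, α i ≠ 0 := by
  have h1 : mp (jp (k := k) q hq) (le_jp q hq h) hb (fun i => c0 k (α i)) ≠ 0 := by
    intro h2
    apply h0
    rw [mv, h2, zero_comp]
  obtain ⟨i, hi⟩ := (ne_zero_iff (jp (k := k) q hq) (le_jp q hq h) hb _).1 h1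
  rw [vec_mp] at hi
  exact ⟨i, hi⟩

theorem mv_add_smul {G : X.Modules} {U : X.Opens} {r : ℕ} {b : Fin r → Sec G U} (hb : IsLocBasis b)
    (q : X) (hq : IsClosed ({q} : Set X)) (h : q ∈ U) (α β : Fin r → k) (t : k) :
    mv hb q hq h α + t • mv hb q hq h β = mv hb q hq h (fun i => α i + t * β i) := by
  rw [mv, mv, mv, ← Linear.smul_comp, ← Preadditive.add_comp]
  congr 1
  rw [eq_mp_vec (jp (k := k) q hq) (le_jp q hq h) hb (_ + _)]
  congr 1
  funext i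
  rw [vec_add, vec_smul _ _ _ (jp_st q hq), vec_mp, vec_mp]

include hdim

theorem gs_kernel {r : ℕ} {G : X.Modules} (hG : FlatMod.IsFinLocFreeOfRank r G) (p : X)
    (hp : IsClosed ({p} : Set X)) (φ : G ⟶ ClSub.quotMod (pt p hp)) (hφ : φ ≠ 0) (h : GS k r (kernel φ)) (q : X)
    (hq : IsClosed ({q} : Set X)) (ψ : G ⟶ ClSub.quotMod (pt q hq)) (hψ : ψ ≠ 0) (hst : St k (kernel ψ)) :
    GS k r (kernel ψ) := by
  have h1 := dg_kernel k hdim (isCoh_of_rank hG) p hp φ hφ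
  have h2 := dg_kernel k hdim (isCoh_of_rank hG) q hq ψ hψ
  have h3 := rank_kernel k hdim hG q hq ψ hψ
  refine ⟨h3, ?_, hst⟩
  have h4 := h.2.1
  rw [euler_eq_dg, rk_of_rank h.1, h1] at h4
  rw [euler_eq_dg, rk_of_rank h3, h2]
  exact h4

/-- **Openness of stability for moving points.** -/
theorem o1 {r : ℕ} (G : X.Modules) (hG : FlatMod.IsFinLocFreeOfRank r G) (p : X) (hp : IsClosed ({p} : Set X))
    (φ : G ⟶ ClSub.quotMod (pt p hp)) (hφ : φ ≠ 0) (h : GS k r (kernel φ)) : ∃ Z : Set X, Z.Finite ∧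
      ∀ (q : X) (hq : IsClosed ({q} : Set X)), q ∉ Z → ∃ ψ : G ⟶ ClSub.quotMod (pt q hq), ψ ≠ 0 ∧
        GS k r (kernel ψ) := by
  have hgc : GeometricallyConnected (X ↘ Spec (CommRingCat.of k)) :=
    Groth.Agent.Fdesc.GeomAlgClosed.geometricallyConnected_of_connectedSpace (X ↘ Spec (CommRingCat.of k))
  have hnX := isNoetherian k (X := X)
  obtain ⟨U, hpU, e⟩ := hG p
  obtain ⟨b, hb⟩ := Groth.Agent.Sga67.LocBasis.nonempty_restrict_iso_iff.mp e
  obtain ⟨α, rfl⟩ := exists_mv (k := k) hb p hp hpU φ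
  obtain ⟨i₀, hi₀⟩ := exists_ne hb p hp hpU hφ
  let T : Over (B0 k) := Over.mk (U.ι ≫ st k X)
  have hT : IsLocallyNoetherian T.left := inferInstanceAs (IsLocallyNoetherian (U : Scheme.{u}))
  let y : T.left ⟶ X := U.ι
  have hU : ⊤ ≤ y ⁻¹ᵁ U := by
    intro x _
    exact x.2
  let s : k →+* Γ(T.left, ⊤) := T.hom.appTop.hom.comp (c0 k)
  let a : Fin r → Γ(T.left, ⊤) := fun i => s (α i)
  let c : Fin r → Γ(T.left, ⊤) := fun i => if i = i₀ then s (α i₀)⁻¹ else 0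
  have hc : ∑ i, c i * a i = 1 := by
    rw [Finset.sum_eq_single i₀]
    · simp only [c, a, if_true]
      rw [← map_mul, inv_mul_cancel₀ hi₀, map_one]
    · intro i _ hi
      simp only [c, if_neg hi, zero_mul]
    · intro h; exact absurd (Finset.mem_univ _) h
  have hs : ∀ (p' : Spec (CommRingCat.of k) ⟶ T.left) (_ : p' ≫ T.hom = 𝟙 _) (i : Fin r),
      p'.appTop (a i) = c0 k (α i) := by
    intro p' hp' i
    have h1 : p'.appTop (T.hom.appTop (c0 k (α i))) = (p' ≫ T.hom).appTop (c0 k (α i)) := by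
      rw [Scheme.Hom.comp_appTop]
      rfl
    refine h1.trans ?_
    rw [hp']
    rfl
  have hfac : ∀ (q : X) (hq : IsClosed ({q} : Set X)) (hqU : q ∈ U), ∃ (p' : Spec (CommRingCat.of k) ⟶ T.left)
      (_ : p' ≫ T.hom = 𝟙 _) (hUp : ⊤ ≤ (p' ≫ y) ⁻¹ᵁ U), U.ι (p' (IsLocalRing.closedPoint k)) = q ∧
      Nonempty (kernel (mp (p' ≫ y) hUp hb fun i => p'.appTop (a i)) ≅ kernel (mv hb q hq hqU α)) := by
    intro q hq hqU
    obtain ⟨p', hp'⟩ := K619.HeckeOpen.exists_fac U (jp (k := k) q hq) (by rw [jp_apply]; exact hqU)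
    have h1 : p' ≫ T.hom = 𝟙 _ := by
      change p' ≫ U.ι ≫ (X ↘ Spec (CommRingCat.of k)) = 𝟙 _
      rw [← Category.assoc, hp', jp_st]
    have h2 : ⊤ ≤ (p' ≫ y) ⁻¹ᵁ U := by
      have := le_jp (k := k) q hq hqU
      rw [← hp'] at this
      exact this
    refine ⟨p', h1, h2, ?_, ?_⟩
    · have h3 := jp_apply (k := k) q hq (IsLocalRing.closedPoint k)
      rw [← hp'] at h3
      exact h3
    · obtain ⟨e1⟩ := ker_congr hb (a := fun i => p'.appTop (a i)) (a' := fun i => c0 k (α i)) hp' h2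
        (le_jp q hq hqU) (hs p' h1)
      obtain ⟨e2⟩ := nonempty_ker_mv hb q hq hqU α
      exact ⟨e1 ≪≫ e2⟩
  obtain ⟨p₀, hp₀, hU₀, hpt₀, ⟨e₀⟩⟩ := hfac p hp hpU
  obtain ⟨W, hW, hWs⟩ := K619.HeckeOpen.main (X := X) hdim T y rfl hG hb hU a c hc p₀ hp₀ hU₀
    (by rw [K619.Hecke.euler_iso k e₀]; exact h.2.1) (K619.Hecke.st_iso k e₀.symm h.2.2)
  have hWd : Dense ((U.ι ''ᵁ W : X.Opens) : Set X) :=
    (U.ι ''ᵁ W).2.dense ⟨p, p₀ (IsLocalRing.closedPoint k), hW, hpt₀⟩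
  refine ⟨_, Groth.Agent.VarietyA.Dim1Top.finite_compl hdim.le (U.ι ''ᵁ W) hWd, fun q hq hqZ => ?_⟩
  rw [Set.mem_compl_iff, not_not] at hqZ
  obtain ⟨x, hxW, hxq⟩ := hqZ
  have hqU : q ∈ U := by
    rw [← hxq]
    exact x.2
  obtain ⟨p', hp', hUp, hpt, ⟨e'⟩⟩ := hfac q hq hqU
  have h1 : p' (IsLocalRing.closedPoint k) = x := by
    apply U.ι.isOpenEmbedding.injective
    exact hpt.trans hxq.symm
  have h2 := hWs p' hp' hUp (by rw [h1]; exact hxW)
  have hne := mv_ne_zero hb q hq hqU hi₀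
  exact ⟨mv hb q hq hqU α, hne, gs_kernel hdim hG p hp _ hφ h q hq _ hne (K619.Hecke.st_iso k e' h2)⟩

end K619.HeckeO
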