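import Groth.Agent.BunMod.K619.HeckeO1
import Mathlib.RingTheory.Polynomial.Basic

/-!
# Stability is open along lines in `Hom(G, κ(p))`, and chains of Hecke modifications (helper619)
-/

set_option autoImplicit false
set_option linter.unusedSectionVars false
universe u
open CategoryTheory CategoryTheory.Limits AlgebraicGeometry TopologicalSpace Opposite

namespace K619.HeckeO

open Groth.Agent Groth.Agent.CurvesC Groth.Agent.Dix.PointIdeal K704.Pt K61.Skys K140.BM K619.Dict K619.Hecke
open Groth.Agent.VarietyA.DegRank K707.Base K707.Deg K707.Slope K707.Semi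
open Groth.Agent.Sga67.Sec Groth.Agent.Sga67.LocBasis K670.MapTo

section line

open Polynomial

variable {k : Type u} [Field k] (f : k[X])

/-- Evaluation on the localisation. -/
noncomputable def evt (t : k) (h : f.eval t ≠ 0) : Localization.Away f →+* k :=
  IsLocalization.Away.lift (g := evalRingHom t) f (isUnit_iff_ne_zero.2 h)

theorem evt_algebraMap (t : k) (h : f.eval t ≠ 0) (g : k[X]) :
    evt f t h (algebraMap k[X] (Localization.Away f) g) = g.eval t :=
  IsLocalization.Away.lift_eq f _ g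

theorem evt_const (t : k) (h : f.eval t ≠ 0) (x : k) : evt f t h (algebraMap k (Localization.Away f) x) = x := by
  rw [IsScalarTower.algebraMap_apply k k[X] (Localization.Away f), evt_algebraMap, algebraMap_eq, eval_C]

/-- The line as a scheme over `k`. -/
noncomputable def TL : Over (B0 k) :=
  Over.mk (Spec.map (CommRingCat.ofHom (algebraMap k (Localization.Away f))))

theorem isLocallyNoetherian_TL : IsLocallyNoetherian (TL f).left := by
  have : IsNoetherianRing (Localization.Away f) := IsLocalization.isNoetherianRing (Submonoid.powers f) _ inferInstance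
  exact inferInstanceAs (IsLocallyNoetherian (Spec (CommRingCat.of (Localization.Away f))))

/-- The point `t` of the line. -/
noncomputable def ptL (t : k) (h : f.eval t ≠ 0) : Spec (CommRingCat.of k) ⟶ (TL f).left :=
  Spec.map (CommRingCat.ofHom (evt f t h))

theorem ptL_hom (t : k) (h : f.eval t ≠ 0) : ptL f t h ≫ (TL f).hom = 𝟙 _ := by
  change Spec.map (CommRingCat.ofHom (evt f t h)) ≫ Spec.map (CommRingCat.ofHom (algebraMap k (Localization.Away f))) = _
  rw [← Spec.map_comp, ← CommRingCat.ofHom_comp]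
  have : (evt f t h).comp (algebraMap k (Localization.Away f)) = RingHom.id k := by
    ext x
    exact evt_const f t h x
  rw [this]
  exact Spec.map_id _

/-- Elements of the localisation as functions. -/
noncomputable def sL : Localization.Away f →+* Γ((TL f).left, ⊤) :=
  (Scheme.ΓSpecIso (CommRingCat.of (Localization.Away f))).inv.hom

theorem ptL_sL (t : k) (h : f.eval t ≠ 0) (x : Localization.Away f) :
    (ptL f t h).appTop (sL f x) = c0 k (evt f t h x) := by
  have h1 := Scheme.ΓSpecIso_inv_naturality (CommRingCat.ofHom (evt f t h))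
  exact congr($h1 x).symm

theorem mem_basicOpen_ptL (t : k) (h : f.eval t ≠ 0) (g : Localization.Away f) :
    (ptL f t h) (IsLocalRing.closedPoint k) ∈ PrimeSpectrum.basicOpen g ↔ evt f t h g ≠ 0 := by
  change g ∉ ((IsLocalRing.closedPoint k).asIdeal.comap (evt f t h)) ↔ _
  rw [Ideal.mem_comap]
  change evt f t h g ∉ IsLocalRing.maximalIdeal k ↔ _
  rw [IsLocalRing.maximalIdeal_eq_bot, Ideal.mem_bot]

/-- A neighbourhood of a point of the line contains almost all points. -/
theorem finite_not_mem (t₀ : k) (h₀ : f.eval t₀ ≠ 0) (W : (TL f).left.Opens)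
    (hW : ptL f t₀ h₀ (IsLocalRing.closedPoint k) ∈ W) :
    ∃ Z : Set k, Z.Finite ∧ ∀ t, t ∉ Z → ∃ h : f.eval t ≠ 0, ptL f t h (IsLocalRing.closedPoint k) ∈ W := by
  obtain ⟨_, ⟨g, rfl⟩, hg, hgW⟩ := (PrimeSpectrum.isTopologicalBasis_basic_opens
    (R := Localization.Away f)).exists_subset_of_mem_open hW W.2
  have hg' : ptL f t₀ h₀ (IsLocalRing.closedPoint k) ∈ PrimeSpectrum.basicOpen g := hg
  rw [mem_basicOpen_ptL] at hg'
  obtain ⟨⟨g', s⟩, hs⟩ := IsLocalization.surj (Submonoid.powers f) g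
  obtain ⟨n, hn⟩ := s.2
  have key : ∀ (t : k) (h : f.eval t ≠ 0), evt f t h g * (f.eval t) ^ n = g'.eval t := by
    intro t h
    have h1 := congrArg (evt f t h) hs
    rw [map_mul, evt_algebraMap, evt_algebraMap, ← hn, eval_pow] at h1
    exact h1
  have hg0 : g' ≠ 0 := by
    rintro rfl
    have h1 := key t₀ h₀
    rw [eval_zero] at h1
    exact (mul_ne_zero hg' (pow_ne_zero _ h₀)) h1
  have hf0 : f ≠ 0 := by
    rintro rfl
    exact h₀ eval_zero
  refine ⟨{t | (f * g').eval t = 0}, Polynomial.finite_setOfPred_isRoot (mul_ne_zero hf0 hg0), fun t ht => ?_⟩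
  simp only [Set.mem_ofPred_eq, eval_mul, mul_eq_zero, not_or] at ht
  refine ⟨ht.1, hgW ?_⟩
  change ptL f t ht.1 (IsLocalRing.closedPoint k) ∈ PrimeSpectrum.basicOpen g
  rw [mem_basicOpen_ptL]
  intro h1
  apply ht.2
  rw [← key t ht.1, h1, zero_mul]

end line

variable {k : Type u} [Field k] {X : Scheme.{u}} [X.Over (Spec (CommRingCat.of k))]
variable [IsIntegral X] [IsProper (X ↘ Spec (CommRingCat.of k))] [Smooth (X ↘ Spec (CommRingCat.of k))]
  [IsAlgClosed k] (hdim : topologicalKrullDim X = 1)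

include hdim

open Polynomial in
/-- **Openness of stability along lines.** -/
theorem o2 {r : ℕ} (G : X.Modules) (hG : FlatMod.IsFinLocFreeOfRank r G) (p : X) (hp : IsClosed ({p} : Set X))
    (φ ψ : G ⟶ ClSub.quotMod (pt p hp)) (hφ : φ ≠ 0) (h : GS k r (kernel φ)) : ∃ Z : Set k, Z.Finite ∧
      ∀ t : k, t ∉ Z → φ + t • ψ ≠ 0 ∧ GS k r (kernel (φ + t • ψ)) := by
  have hgc : GeometricallyConnected (X ↘ Spec (CommRingCat.of k)) :=
    Groth.Agent.Fdesc.GeomAlgClosed.geometricallyConnected_of_connectedSpace (X ↘ Spec (CommRingCat.of k))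
  obtain ⟨U, hpU, e⟩ := hG p
  obtain ⟨b, hb⟩ := Groth.Agent.Sga67.LocBasis.nonempty_restrict_iso_iff.mp e
  obtain ⟨α, rfl⟩ := exists_mv (k := k) hb p hp hpU φ
  obtain ⟨β, rfl⟩ := exists_mv (k := k) hb p hp hpU ψ
  obtain ⟨i₀, hi₀⟩ := exists_ne hb p hp hpU hφ
  let F : Fin r → k[X] := fun i => C (α i) + C (β i) * Polynomial.X
  have hF : ∀ i t, (F i).eval t = α i + t * β i := fun i t => by
    simp only [F, eval_add, eval_C, eval_mul, eval_X]
    ring
  let f := F i₀
  have hf0 : f.eval 0 ≠ 0 := by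
    change (F i₀).eval 0 ≠ 0
    rw [hF, zero_mul, add_zero]
    exact hi₀
  let T : Over (B0 k) := TL f
  have hT : IsLocallyNoetherian T.left := isLocallyNoetherian_TL f
  let y : T.left ⟶ X := T.hom ≫ jp (k := k) p hp
  have hy : y ≫ st k X = T.hom := by
    change (T.hom ≫ jp (k := k) p hp) ≫ (X ↘ Spec (CommRingCat.of k)) = T.hom
    rw [Category.assoc, jp_st, Category.comp_id]
  have hU : ⊤ ≤ y ⁻¹ᵁ U := by
    intro x _
    exact le_jp (k := k) p hp hpU (Opens.mem_top (T.hom x))
  let a : Fin r → Γ(T.left, ⊤) := fun i => sL f (algebraMap k[X] (Localization.Away f) (F i))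
  let c : Fin r → Γ(T.left, ⊤) := fun i => if i = i₀ then sL f (IsLocalization.Away.invSelf f) else 0
  have hc : ∑ i, c i * a i = 1 := by
    rw [Finset.sum_eq_single i₀]
    · simp only [c, a, if_true]
      rw [← map_mul, mul_comm, IsLocalization.Away.mul_invSelf, map_one]
    · intro i _ hi
      simp only [c, if_neg hi, zero_mul]
    · intro h; exact absurd (Finset.mem_univ _) h
  have hs : ∀ (t : k) (ht : f.eval t ≠ 0) (i : Fin r), (ptL f t ht).appTop (a i) = c0 k (α i + t * β i) := by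
    intro t ht i
    refine (ptL_sL f t ht _).trans ?_
    rw [evt_algebraMap, hF]
  have hfac : ∀ (t : k) (ht : f.eval t ≠ 0), ∃ hUp : ⊤ ≤ (ptL f t ht ≫ y) ⁻¹ᵁ U,
      Nonempty (kernel (mp (ptL f t ht ≫ y) hUp hb fun i => (ptL f t ht).appTop (a i)) ≅
        kernel (mv hb p hp hpU fun i => α i + t * β i)) := by
    intro t ht
    have h1 : ptL f t ht ≫ y = jp (k := k) p hp := by
      change ptL f t ht ≫ T.hom ≫ jp (k := k) p hp = _
      have h2 : ptL f t ht ≫ T.hom = 𝟙 _ := ptL_hom f t ht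
      rw [← Category.assoc, h2, Category.id_comp]
    have h2 : ⊤ ≤ (ptL f t ht ≫ y) ⁻¹ᵁ U := by
      rw [h1]
      exact le_jp (k := k) p hp hpU
    obtain ⟨e1⟩ := ker_congr hb (a := fun i => (ptL f t ht).appTop (a i)) (a' := fun i => c0 k (α i + t * β i)) h1 h2
      (le_jp p hp hpU) (hs t ht)
    obtain ⟨e2⟩ := nonempty_ker_mv hb p hp hpU (fun i => α i + t * β i)
    exact ⟨h2, ⟨e1 ≪≫ e2⟩⟩
  obtain ⟨hU₀, ⟨e₀⟩⟩ := hfac 0 hf0
  have h0 : (fun i => α i + 0 * β i) = α := by
    funext i
    rw [zero_mul, add_zero]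
  rw [h0] at e₀
  obtain ⟨W, hW, hWs⟩ := K619.HeckeOpen.main (X := X) hdim T y hy hG hb hU a c hc (ptL f 0 hf0) (ptL_hom f 0 hf0) hU₀
    (by rw [K619.Hecke.euler_iso k e₀]; exact h.2.1) (K619.Hecke.st_iso k e₀.symm h.2.2)
  obtain ⟨Z, hZ, hZW⟩ := finite_not_mem f 0 hf0 W hW
  refine ⟨Z, hZ, fun t ht => ?_⟩
  obtain ⟨hft, htW⟩ := hZW t ht
  obtain ⟨hUp, ⟨e'⟩⟩ := hfac t hft
  have h2 := hWs (ptL f t hft) (ptL_hom f t hft) hUp htW
  have hne : mv (k := k) hb p hp hpU (fun i => α i + t * β i) ≠ 0 := by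
    refine mv_ne_zero hb p hp hpU (i₀ := i₀) ?_
    rw [← hF]
    exact hft
  rw [mv_add_smul]
  exact ⟨hne, gs_kernel hdim hG p hp _ hφ h p hp _ hne (K619.Hecke.st_iso k e' h2)⟩

/-- Stability (with `χ = 0`) is open for elementary modifications. -/
theorem good_gs (r : ℕ) : K61.Hecke.Good k r (GS (X := X) k r) where
  iso := fun e h => ⟨rank_iso e h.1, by rw [← K619.Hecke.euler_iso k e]; exact h.2.1, K619.Hecke.st_iso k e h.2.2⟩
  o1 := fun G hG p hp φ hφ h => o1 hdim G hG p hp φ hφ h
  o2 := fun G hG p hp φ ψ hφ h => o2 hdim G hG p hp φ ψ hφ h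

end K619.HeckeO

namespace K619.Hecke

variable (k : Type u) [Field k] {X : Scheme.{u}} [X.Over (Spec (CommRingCat.of k))]
variable [IsIntegral X] [IsProper (X ↘ Spec (CommRingCat.of k))] [Smooth (X ↘ Spec (CommRingCat.of k))]
  [IsAlgClosed k] (hdim : topologicalKrullDim X = 1)

include hdim

/-- **Any two good bundles are joined by a chain of Hecke modifications.** -/
theorem chain {r : ℕ} (hr : 0 < r) {E E' : X.Modules} (hE : GoodB k r E) (hE' : GoodB k r E') :
    Relation.EqvGen (Hk k r) E E' :=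
  chain_of k hdim hr (K619.HeckeO.good_gs hdim r) hE hE'

end K619.Hecke
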