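import Groth.Agent.VBCurve.K707.Semi
import Groth.Agent.CurvesB.VABaseChange
import Groth.Agent.PerfB.FibreConc
import Groth.Agent.PerfC.FlatExact

/-!
# Stability and pull-back along isomorphisms of curves (helper619)
-/

set_option autoImplicit false
universe u

open CategoryTheory CategoryTheory.Limits AlgebraicGeometry

namespace K619.PullIso

open Groth.Agent Groth.Agent.VarietyA.DegRank K707.Base K707.Deg K707.Slope K707.Semi

variable {k : Type u} [Field k] {X P : Scheme.{u}} [X.Over (Spec (CommRingCat.of k))]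
  [P.Over (Spec (CommRingCat.of k))] (e : P ⟶ X) [IsIso e]
  (he : e ≫ (X ↘ Spec (CommRingCat.of k)) = P ↘ Spec (CommRingCat.of k))

omit [X.Over (Spec (CommRingCat.of k))] [P.Over (Spec (CommRingCat.of k))] [IsIso e] in
theorem rank_pull {n : ℕ} {M : X.Modules} (h : FlatMod.IsFinLocFreeOfRank n M) :
    FlatMod.IsFinLocFreeOfRank n ((Scheme.Modules.pullback e).obj M) :=
  PerfB.FibreConc.isFinLocFreeOfRank_pullback _ h

variable [IsIntegral X] [IsIntegral P]

omit [X.Over (Spec (CommRingCat.of k))] [P.Over (Spec (CommRingCat.of k))] [IsIso e] in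
theorem rk_pull {M : X.Modules} (h : FlatMod.IsFinLocFree M) : rk ((Scheme.Modules.pullback e).obj M) = rk M :=
  rk_of_rank (rank_pull e (isFinLocFreeOfRank_rk h))

omit [X.Over (Spec (CommRingCat.of k))] [P.Over (Spec (CommRingCat.of k))] [IsIso e] [IsIntegral P] in
theorem vb_pull {M : X.Modules} (h : FlatMod.IsFinLocFree M) :
    FlatMod.IsFinLocFree ((Scheme.Modules.pullback e).obj M) :=
  isFinLocFree_of_rank (rank_pull e (isFinLocFreeOfRank_rk h))

include he

omit [IsIntegral X] [IsIntegral P] in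
theorem isPullback : IsPullback e (P ↘ Spec (CommRingCat.of k)) (X ↘ Spec (CommRingCat.of k))
    (Spec.map (CommRingCat.ofHom (algebraMap k k))) := by
  have h : Spec.map (CommRingCat.ofHom (algebraMap k k)) = 𝟙 (Spec (CommRingCat.of k)) := Spec.map_id _
  rw [h]
  exact IsPullback.of_horiz_isIso ⟨by rw [he, Category.comp_id]⟩

theorem dg_pull [IsProper (X ↘ Spec (CommRingCat.of k))] {M : X.Modules} (h : FlatMod.IsFinLocFree M) :
    dg k ((Scheme.Modules.pullback e).obj M) = dg k M := by
  have h1 := isFinLocFreeOfRank_rk h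
  rw [dg_of_rank k (rank_pull e h1), dg_of_rank k h1]
  exact Groth.Agent.CurvesB.VABaseChange.deg_eq (k := k) (K := k) (p := e) (isPullback e he) M (isCoh_of_rank h1).1 _

omit he in
/-- The pull-back of a stable bundle along an isomorphism. -/
theorem st_pull_of (e' : X ⟶ P) (h' : e' ≫ e = 𝟙 X)
    (he' : e' ≫ (P ↘ Spec (CommRingCat.of k)) = X ↘ Spec (CommRingCat.of k)) [IsIso e']
    (he : e ≫ (X ↘ Spec (CommRingCat.of k)) = P ↘ Spec (CommRingCat.of k))
    [IsProper (X ↘ Spec (CommRingCat.of k))] [IsProper (P ↘ Spec (CommRingCat.of k))]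
    {M : X.Modules} (hM : FlatMod.IsFinLocFree M) (h : St k M) :
    St k ((Scheme.Modules.pullback e).obj M) := by
  intro F i hi hF h1 h2
  have hfl : PreservesFiniteLimits (Scheme.Modules.pullback e') := PerfC.FlatExact.preservesFiniteLimits_pullback e'
  have hm : Mono ((Scheme.Modules.pullback e').map i) := inferInstance
  let θ : (Scheme.Modules.pullback e').obj ((Scheme.Modules.pullback e).obj M) ≅ M :=
    (Scheme.Modules.pullbackComp e' e).app M ≪≫ (Scheme.Modules.pullbackCongr h').app M ≪≫
      (Scheme.Modules.pullbackId X).app M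
  have h3 := h ((Scheme.Modules.pullback e').obj F) ((Scheme.Modules.pullback e').map i ≫ θ.hom) (mono_comp _ _)
    (vb_pull e' hF) (by rw [rk_pull e' hF]; exact h1) (by rw [rk_pull e' hF]; rwa [rk_pull e hM] at h2)
  rw [rk_pull e' hF, dg_pull e' he' hF] at h3
  rw [rk_pull e hM, dg_pull e he hM]
  exact h3

/-- **Stability and pull-back along an isomorphism.** -/
theorem st_pull_iff [IsProper (X ↘ Spec (CommRingCat.of k))] [IsProper (P ↘ Spec (CommRingCat.of k))]
    {M : X.Modules} (hM : FlatMod.IsFinLocFree M) : St k ((Scheme.Modules.pullback e).obj M) ↔ St k M := by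
  have he' : inv e ≫ (P ↘ Spec (CommRingCat.of k)) = X ↘ Spec (CommRingCat.of k) := by
    rw [← he, IsIso.inv_hom_id_assoc]
  refine ⟨fun h => ?_, fun h => st_pull_of e (inv e) (by simp) he' he hM h⟩
  have h1 := st_pull_of (inv e) e (by simp) he he' (vb_pull e hM) h
  let θ : (Scheme.Modules.pullback (inv e)).obj ((Scheme.Modules.pullback e).obj M) ≅ M :=
    (Scheme.Modules.pullbackComp (inv e) e).app M ≪≫ (Scheme.Modules.pullbackCongr (by simp)).app M ≪≫
      (Scheme.Modules.pullbackId X).app M
  intro F i hi hF h2 h3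
  have hv := vb_pull (inv e) (vb_pull e hM)
  have hrk : rk ((Scheme.Modules.pullback (inv e)).obj ((Scheme.Modules.pullback e).obj M)) = rk M := by
    rw [rk_pull (inv e) (vb_pull e hM), rk_pull e hM]
  have h4 := h1 F (i ≫ θ.inv) (mono_comp _ _) hF h2 (by rw [hrk]; exact h3)
  rwa [hrk, dg_iso k θ] at h4

end K619.PullIso
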