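import Groth.Agent.BunMod.K890.KSBase
import Groth.Agent.BunMod.K54.TwExact
import Groth.Agent.BunMod.K54.Theta
import Groth.Agent.BunMod.K311.Fam
import Groth.Agent.Pic13.H952.FibrePt
import Groth.Agent.S15985
import Groth.Agent.S1025
import Groth.Agent.Krr.H497.Bridge

/-!
# From the closed fibre to a local base (helper619)

`R` a local `k`-algebra, `ρ : R →ₐ[k] Ω` a local homomorphism to a field, `c : Fin M → R`:

* `isZero_Rpush_of_closed`, `subsingleton_HH_of_closed`: for a proper finitely presented `q : Y ⟶ T` and `G` finitely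
  presented and flat over `T`, all points of `T` specializing to the point of `t : Spec Ω ⟶ T`:
  `H^p(Y_t, G_t) = 0` implies `R^p q_* G = 0`;
* `rank`, `mono`: `V_c` is locally free of rank `n` (and `∑ c_i e_i` a monomorphism) if this holds over `Ω`;
* `van`: `H¹(X_R, V_c ⊗ W) = 0` if this holds over `Ω`.
-/

set_option autoImplicit false
universe u

open CategoryTheory CategoryTheory.Limits AlgebraicGeometry

namespace K619.VpLoc

open Groth.Agent K140.BM K524.X1Fam K824.Join K890.KS K54.TwExact K54.FamSec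

section General

variable {Y T : Scheme.{u}} (q : Y ⟶ T) [IsProper q] [LocallyOfFinitePresentation q] (G : Y.Modules)
  (hfp : CohB1.IsFP G) (hfl : FlatMod.IsFlatOver q G)

omit [LocallyOfFinitePresentation q] in
include hfp in
/-- Zero Betti numbers give vanishing of the cohomology of the fibre. -/
theorem subsingleton_fiberH (y : T) (p : ℕ) (h : PerfAux.betti q G y p = 0) :
    Subsingleton (PerfAux.fiberH q G y p) := by
  let _ : (q.fiber y).Over (Spec (CommRingCat.of (T.residueField y))) := ⟨q.fiberToSpecResidueField y⟩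
  have h1 : IsProper ((q.fiber y) ↘ Spec (CommRingCat.of (T.residueField y))) :=
    inferInstanceAs (IsProper (pullback.snd q (T.fromSpecResidueField y)))
  have h2 : IsLocallyNoetherian (q.fiber y) :=
    LocallyOfFiniteType.isLocallyNoetherian ((q.fiber y) ↘ Spec (CommRingCat.of (T.residueField y)))
  have h3 : CohB1.IsFP ((Scheme.Modules.pullback (q.fiberι y)).obj G) := SDiv.K474.FittBlow2.isFP_pullback _ hfp
  have h4 : Coh.IsCoh ((Scheme.Modules.pullback (q.fiberι y)).obj G) :=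
    ⟨Models2.FPCoh.isQCoh_of_isFP h3, Models2.FPCoh.isFT_of_isFP h3⟩
  have h5 : Module.Finite (T.residueField y) (Coh.HH (q.fiber y) ((Scheme.Modules.pullback (q.fiberι y)).obj G) p) :=
    Groth.Agent.S0002.result (T.residueField y) (q.fiber y) _ h4 p
  exact (Module.finrank_zero_iff (R := T.residueField y)
    (M := Coh.HH (q.fiber y) ((Scheme.Modules.pullback (q.fiberι y)).obj G) p)).1 h

variable [HasInjectiveResolutions Y.Modules] {Ω : Type u} [Field Ω] (t : Spec (CommRingCat.of Ω) ⟶ T) {Y' : Scheme.{u}}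
  (j : Y' ⟶ Y) (q' : Y' ⟶ Spec (CommRingCat.of Ω)) (H : IsPullback j q' q t)
  (ht : ∀ x : T, x ⤳ t (IsLocalRing.closedPoint Ω)) (p : ℕ)
  (h : Subsingleton (Coh.HH Y' ((Scheme.Modules.pullback j).obj G) p))

include hfp hfl H ht h

theorem isZero_Rpush_of_closed : IsZero ((Coh.Rpush q p).obj G) := by
  have hq : Coh.IsQCoh G := Models2.FPCoh.isQCoh_of_isFP hfp
  let _ : Y'.Over (Spec (CommRingCat.of Ω)) := ⟨q'⟩
  have h0 : PerfAux.betti q G (t (IsLocalRing.closedPoint Ω)) p < 1 := by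
    rw [← Groth.Agent.Pic13.H952.FibrePt.finrank_eq_betti q t j H _ ⟨_, rfl⟩ G hq p, Nat.lt_one_iff]
    exact Module.finrank_zero_of_subsingleton
  have h1 : ∀ y : T, PerfAux.betti q G y p < 1 := fun y =>
    (ht y).mem_open (Groth.Agent.S1025.result q G hfp hfl p 1) h0
  exact Groth.Agent.S15985.result q G hfp hfl p fun y => subsingleton_fiberH q G hfp y p (Nat.lt_one_iff.1 (h1 y))

theorem subsingleton_HH_of_closed [IsAffine T] : Subsingleton (Coh.HH Y G p) :=
  (Groth.Agent.Krr.H497.Bridge.isZero_Rpush_iff_HH q G (Models2.FPCoh.isQCoh_of_isFP hfp) p).1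
    (isZero_Rpush_of_closed q G hfp hfl t j q' H ht p h)

end General

section Family

variable {k : Type u} [Field k] {X : Scheme.{u}} [X.Over (Spec (CommRingCat.of k))]
  [IsProper (X ↘ Spec (CommRingCat.of k))] {K G : X.Modules} {M n : ℕ} (e : Fin M → (K ⟶ G))
  {R Ω : Type u} [CommRing R] [IsLocalRing R] [Algebra k R] [Field Ω] [Algebra k Ω] (ρ : R →ₐ[k] Ω)
  [IsLocalHom ρ.toRingHom] (c : Fin M → R)

omit [X.Over (Spec (CommRingCat.of k))] [IsProper (X ↘ Spec (CommRingCat.of k))] in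
/-- All points of `Spec R` specialize to the point of `Spec Ω`. -/
theorem specializes (x : (SpA k R).left) :
    x ⤳ (mA ρ : SpA k Ω ⟶ SpA k R).left (IsLocalRing.closedPoint Ω) := by
  have h1 : (mA ρ : SpA k Ω ⟶ SpA k R).left (IsLocalRing.closedPoint Ω) = IsLocalRing.closedPoint R :=
    IsLocalRing.comap_closedPoint ρ.toRingHom
  have h2 : (x : PrimeSpectrum R) ⤳ IsLocalRing.closedPoint R := IsLocalRing.specializes_closedPoint x
  exact h1 ▸ h2

/-- **Rank.** -/
theorem rank (hK : FlatMod.IsFinLocFreeOfRank 1 K) (hG : FlatMod.IsFinLocFreeOfRank (n + 1) G)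
    (h : FlatMod.IsFinLocFreeOfRank n (VA (k := k) e Ω fun i => ρ (c i))) :
    FlatMod.IsFinLocFreeOfRank n (VA (k := k) e R c) := by
  have : IsProper (st k X) := ‹IsProper (X ↘ Spec (CommRingCat.of k))›
  obtain ⟨A, hA⟩ := exists_good e hK hG (SpA k R) fun i => fn k (c i)
  obtain ⟨I, -⟩ := exists_bc (k := k) e ρ c (fun i => ρ (c i)) fun _ => rfl
  have h1 : FlatMod.IsFinLocFreeOfRank n (pl k X (mA ρ) (VA (k := k) e R c)) :=
    Krr.H487.KerRank.isFinLocFreeOfRank_of_iso I.symm h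
  have h2 := (hA _ (mA ρ)).1 h1 (IsLocalRing.closedPoint Ω)
  have h3 : ∀ x : (SpA k R).left, x ∈ A := fun x => (specializes ρ x).mem_open A.2 h2
  exact Krr.H487.KerRank.isFinLocFreeOfRank_of_iso (K311.Fam.plId _) ((hA _ (𝟙 (SpA k R))).2 fun x => h3 _)

/-- **Monomorphism.** -/
theorem mono (hK : FlatMod.IsFinLocFreeOfRank 1 K) (hG : FlatMod.IsFinLocFreeOfRank (n + 1) G)
    (h : FlatMod.IsFinLocFreeOfRank n (VA (k := k) e Ω fun i => ρ (c i))) : Mono (ueA (k := k) e R c) :=
  K524.X1Coker.mono_of_rank (PerfB.FibreConc.isFinLocFreeOfRank_pullback _ hK)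
    (PerfB.FibreConc.isFinLocFreeOfRank_pullback _ hG) _ (rank e ρ c hK hG h)

omit [IsProper (X ↘ Spec (CommRingCat.of k))] [IsLocalRing R] [IsLocalHom ρ.toRingHom] in
/-- Base change of `V_c ⊗ W`. -/
theorem nonempty_bc_tw (W : X.Modules) :
    Nonempty (pl k X (mA ρ) (CohB1.tensorMod (VA (k := k) e R c) (cst k (SpA k R) W)) ≅
      CohB1.tensorMod (VA (k := k) e Ω fun i => ρ (c i)) (cst k (SpA k Ω) W)) := by
  obtain ⟨I, -⟩ := exists_bc (k := k) e ρ c (fun i => ρ (c i)) fun _ => rfl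
  exact ⟨TwPl (mA ρ) (VA (k := k) e R c) W ≪≫ lmapIso I W⟩

/-- **Vanishing for a family.** -/
theorem van_fam {E : (PicF.XT (st k X) (SpA k R)).Modules} (hE : FlatMod.IsFinLocFree E) {W : X.Modules}
    (hW : CohB1.IsFP W) {E' : (PicF.XT (st k X) (SpA k Ω)).Modules} (I : pl k X (mA ρ) E ≅ E')
    (h : Subsingleton (Coh.HH (PicF.XT (st k X) (SpA k Ω)) (CohB1.tensorMod E' (cst k (SpA k Ω) W)) 1)) :
    Subsingleton (Coh.HH (PicF.XT (st k X) (SpA k R)) (CohB1.tensorMod E (cst k (SpA k R) W)) 1) := by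
  have : IsProper (st k X) := ‹IsProper (X ↘ Spec (CommRingCat.of k))›
  have h1 : IsProper (PicF.XTproj (st k X) (SpA k R)) :=
    inferInstanceAs (IsProper (pullback.snd (st k X) (SpA k R).hom))
  have h2 : IsAffine (SpA k R).left := inferInstanceAs (IsAffine (Spec (CommRingCat.of R)))
  refine subsingleton_HH_of_closed (PicF.XTproj (st k X) (SpA k R)) _ (isFP_tw hE hW) (isFlatOver_tw hE W)
    (mA ρ : SpA k Ω ⟶ SpA k R).left (PicF.XTmap (st k X) (mA ρ)) (PicF.XTproj (st k X) (SpA k Ω))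
    (K54.Theta.isPullback_XTmap (mA ρ)) (specializes ρ) 1 ?_
  exact K311.PushFree.subsingleton_HH_of_iso (TwPl (mA ρ) E W ≪≫ lmapIso I W).symm h

/-- **Vanishing for the cokernel family.** -/
theorem van (hK : FlatMod.IsFinLocFreeOfRank 1 K) (hG : FlatMod.IsFinLocFreeOfRank (n + 1) G)
    (hr : FlatMod.IsFinLocFreeOfRank n (VA (k := k) e Ω fun i => ρ (c i))) {W : X.Modules} (hW : CohB1.IsFP W)
    (h : Subsingleton (Coh.HH (PicF.XT (st k X) (SpA k Ω))
      (CohB1.tensorMod (VA (k := k) e Ω fun i => ρ (c i)) (cst k (SpA k Ω) W)) 1)) :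
    Subsingleton (Coh.HH (PicF.XT (st k X) (SpA k R))
      (CohB1.tensorMod (VA (k := k) e R c) (cst k (SpA k R) W)) 1) := by
  obtain ⟨I, -⟩ := exists_bc (k := k) e ρ c (fun i => ρ (c i)) fun _ => rfl
  exact van_fam ρ (K524.X1Coker.finLocFree_of_rank (rank e ρ c hK hG hr)) hW I h

/-- **(K5, local part)** everything at once. -/
theorem vp (hK : FlatMod.IsFinLocFreeOfRank 1 K) (hG : FlatMod.IsFinLocFreeOfRank (n + 1) G)
    (hr : FlatMod.IsFinLocFreeOfRank n (VA (k := k) e Ω fun i => ρ (c i))) {W : X.Modules} {m : ℕ}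
    (hW : FlatMod.IsFinLocFreeOfRank m W)
    (h : Subsingleton (Coh.HH (PicF.XT (st k X) (SpA k Ω))
      (CohB1.tensorMod (VA (k := k) e Ω fun i => ρ (c i)) (cst k (SpA k Ω) W)) 1)) :
    Mono (ueA (k := k) e R c) ∧ FlatMod.IsFinLocFreeOfRank n (VA (k := k) e R c) ∧
      Subsingleton (Coh.HH (PicF.XT (st k X) (SpA k R))
        (CohB1.tensorMod (VA (k := k) e R c) (cst k (SpA k R) W)) 1) :=
  ⟨mono e ρ c hK hG hr, rank e ρ c hK hG hr, van e ρ c hK hG hr
    (Desc.FinLocFreeSections.isFP_of_isFinLocFree (K524.X1Coker.finLocFree_of_rank hW)) h⟩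

end Family

end K619.VpLoc
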