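import Groth.Agent.BunMod.K619.LocSS
import Groth.Agent.BunMod.K619.VpLoc

/-!
# Admissible families over local `k`-algebras from the closed fibre (helper619)
-/

set_option autoImplicit false
universe u

open CategoryTheory CategoryTheory.Limits AlgebraicGeometry

namespace K619.SSFib

open Groth.Agent K140.BM K824.Join K890.KS

variable {k : Type u} [Field k] {X : Scheme.{u}} [X.Over (Spec (CommRingCat.of k))]

theorem ssb_homMk {r : ℕ} {T : Over (B0 k)} {F : (PicF.XT (st k X) T).Modules} {Ω : Type u} [Field Ω]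
    {s : Spec (CommRingCat.of Ω) ⟶ B0 k} (t : Spec (CommRingCat.of Ω) ⟶ T.left) (hs : t ≫ T.hom = s) :
    SSB r s (pl k X (Over.homMk t hs : Over.mk s ⟶ T) F) ↔
      SSB r (t ≫ T.hom) (pl k X (Over.homMk t rfl : Over.mk (t ≫ T.hom) ⟶ T) F) := by
  subst hs
  rfl

/-- Semistability of the fibre at a morphism `g : Spec Ω ⟶ T` over `k`. -/
theorem ssb_hom {r : ℕ} {T : Over (B0 k)} {F : (PicF.XT (st k X) T).Modules} {Ω : Type u} [Field Ω]
    {s : Spec (CommRingCat.of Ω) ⟶ B0 k} (g : Over.mk s ⟶ T) :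
    SSB r s (pl k X g F) ↔ SSB r (g.left ≫ T.hom) (pl k X (Over.homMk g.left rfl : Over.mk (g.left ≫ T.hom) ⟶ T) F) :=
  ssb_homMk g.left (Over.w g)

variable [IsProper (X ↘ Spec (CommRingCat.of k))] [Smooth (X ↘ Spec (CommRingCat.of k))]
  [GeometricallyConnected (X ↘ Spec (CommRingCat.of k))] (hdim : topologicalKrullDim X = 1)

include hdim

/-- **(SSFIB)** A family over a local Noetherian `k`-algebra `R` is admissible if its fibre over `ρ : R → Ω` is
semistable of degree `0`. -/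
theorem ssfib {r : ℕ} (hr : 1 ≤ r) {R Ω : Type u} [CommRing R] [IsLocalRing R] [IsNoetherianRing R] [Algebra k R]
    [Field Ω] [Algebra k Ω] (ρ : R →ₐ[k] Ω) [IsLocalHom ρ.toRingHom]
    {E : (PicF.XT (st k X) (SpA k R)).Modules} (hE : FlatMod.IsFinLocFreeOfRank r E)
    (h : SSB r (SpA k Ω).hom (pl k X (mA ρ : SpA k Ω ⟶ SpA k R) E)) :
    BunMod.ussOK (st k X) r 0 (SpA k R) E := by
  have hN : IsNoetherian (SpA k R).left := inferInstanceAs (IsNoetherian (Spec (CommRingCat.of R)))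
  exact K619.LocSS.ussOK_of_closed hdim hr (SpA k R) E hE (mA ρ : SpA k Ω ⟶ SpA k R).left
    (fun x => K619.VpLoc.specializes ρ x) ((ssb_hom (mA ρ : SpA k Ω ⟶ SpA k R)).1 h)

/-- **(SSFIB)**, from slope-semistability and degree zero of the closed fibre. -/
theorem ssfib' {r : ℕ} (hr : 1 ≤ r) {R Ω : Type u} [CommRing R] [IsLocalRing R] [IsNoetherianRing R] [Algebra k R]
    [Field Ω] [Algebra k Ω] (ρ : R →ₐ[k] Ω) [IsLocalHom ρ.toRingHom]
    {E : (PicF.XT (st k X) (SpA k R)).Modules} (hE : FlatMod.IsFinLocFreeOfRank r E)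
    (hd : letI : (PicF.XT (st k X) (SpA k Ω)).Over (Spec (CommRingCat.of Ω)) := ⟨PicF.XTproj (st k X) (SpA k Ω)⟩
      Curv2.deg Ω (PicF.XT (st k X) (SpA k Ω)) (pl k X (mA ρ : SpA k Ω ⟶ SpA k R) E) r = 0)
    (hss : letI : (PicF.XT (st k X) (SpA k Ω)).Over (Spec (CommRingCat.of Ω)) := ⟨PicF.XTproj (st k X) (SpA k Ω)⟩
      ModFun.IsSlopeSemistable Ω (PicF.XT (st k X) (SpA k Ω)) (pl k X (mA ρ : SpA k Ω ⟶ SpA k R) E) r) :
    BunMod.ussOK (st k X) r 0 (SpA k R) E :=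
  ssfib hdim hr ρ hE ⟨PerfB.FibreConc.isFinLocFreeOfRank_pullback _ hE, hd, hss⟩

/-- **(SSFIB)**, from admissibility of the closed fibre. -/
theorem ssfib_ok {r : ℕ} (hr : 1 ≤ r) {R Ω : Type u} [CommRing R] [IsLocalRing R] [IsNoetherianRing R] [Algebra k R]
    [Field Ω] [IsAlgClosed Ω] [Algebra k Ω] (ρ : R →ₐ[k] Ω) [IsLocalHom ρ.toRingHom]
    {E : (PicF.XT (st k X) (SpA k R)).Modules} (hE : FlatMod.IsFinLocFreeOfRank r E)
    (h : BunMod.ussOK (st k X) r 0 (SpA k Ω) (pl k X (mA ρ : SpA k Ω ⟶ SpA k R) E)) :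
    BunMod.ussOK (st k X) r 0 (SpA k R) E := by
  refine ssfib hdim hr ρ hE ?_
  obtain ⟨h1, h2⟩ := K311.Fam.ussOK_iff.1 h
  have h3 := h2 Ω (SpA k Ω).hom (𝟙 (SpA k Ω))
  exact K311.Fam.ssb_congr (K311.Fam.plId _) h3

end K619.SSFib
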